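import Cfsg.Agent.Lib.SmallGroups.ThreeCube.Main
import Cfsg.Agent.Lib.Solvable.Generation
import Mathlib

/-!
A strongly embedded subgroup `3³ ⋊ 2²` is the whole group.
-/

set_option autoImplicit false
set_option maxHeartbeats 1000000

namespace CfsgLib.SmallGroups.ThreeCube

open Subgroup

/-- The three `3`-cycles. -/
def cyc : Fin 3 → Equiv.Perm (Fin 9) :=
  ![Equiv.swap (0 : Fin 9) 1 * Equiv.swap 1 2, Equiv.swap (3 : Fin 9) 4 * Equiv.swap 4 5,
    Equiv.swap (6 : Fin 9) 7 * Equiv.swap 7 8]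

/-- The two double transpositions. -/
def dblA : Equiv.Perm (Fin 9) := Equiv.swap (0 : Fin 9) 1 * Equiv.swap 3 4

def dblB : Equiv.Perm (Fin 9) := Equiv.swap (0 : Fin 9) 1 * Equiv.swap 6 7

/-- The plane as permutations. -/
def planePerm (t : V) : Equiv.Perm (Fin 9) := cyc 0 ^ t.1.val * (cyc 1 ^ t.2.1.val * cyc 2 ^ t.2.2.val)

/-- The four-group as permutations. -/
def fourPerm (w : W) : Equiv.Perm (Fin 9) := (dblA * dblB) ^ w.1.val * dblB ^ w.2.val

theorem planePerm_add : ∀ t u, planePerm (t + u) = planePerm t * planePerm u := by decide +kernel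

theorem fourPerm_add : ∀ w v, fourPerm (w + v) = fourPerm w * fourPerm v := by decide +kernel

theorem planePerm_act : ∀ w t, planePerm (signAct w t) = fourPerm w * planePerm t * (fourPerm w)⁻¹ := by
  decide +kernel

/-- The plane homomorphism. -/
def planePermHom : Multiplicative V →* Equiv.Perm (Fin 9) where
  toFun t := planePerm t.toAdd
  map_one' := by decide +kernel
  map_mul' t u := planePerm_add _ _

/-- The four-group homomorphism. -/
def fourPermHom : Multiplicative W →* Equiv.Perm (Fin 9) where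
  toFun w := fourPerm w.toAdd
  map_one' := by decide +kernel
  map_mul' w v := fourPerm_add _ _

/-- The permutation model. -/
def toPerm : Local108 →* Equiv.Perm (Fin 9) :=
  SemidirectProduct.lift planePermHom fourPermHom fun w => MonoidHom.ext fun t => planePerm_act w.toAdd t.toAdd

theorem toPerm_ker : ∀ x : Local108, toPerm x = 1 → x = 1 := by decide +kernel

theorem range_toPerm : toPerm.range = Subgroup.closure ({Equiv.swap (0 : Fin 9) 1 * Equiv.swap 1 2,
    Equiv.swap (3 : Fin 9) 4 * Equiv.swap 4 5, Equiv.swap (6 : Fin 9) 7 * Equiv.swap 7 8,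
    Equiv.swap (0 : Fin 9) 1 * Equiv.swap 3 4, Equiv.swap (0 : Fin 9) 1 * Equiv.swap 6 7} : Set (Equiv.Perm (Fin 9))) := by
  apply le_antisymm
  · rintro _ ⟨x, rfl⟩
    rw [← SemidirectProduct.inl_left_mul_inr_right x, map_mul, toPerm, SemidirectProduct.lift_inl,
      SemidirectProduct.lift_inr]
    show planePerm _ * fourPerm _ ∈ _
    refine mul_mem (mul_mem ?_ (mul_mem ?_ ?_)) (mul_mem (pow_mem (mul_mem ?_ ?_) _) (pow_mem ?_ _)) <;>
      first
        | (refine pow_mem (Subgroup.subset_closure ?_) _; simp [cyc])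
        | (refine Subgroup.subset_closure ?_; simp [dblA, dblB])
  · rw [Subgroup.closure_le]
    rintro x (rfl | rfl | rfl | rfl | rfl)
    · exact ⟨pt (axisV 0), by decide +kernel⟩
    · exact ⟨pt (axisV 1), by decide +kernel⟩
    · exact ⟨pt (axisV 2), by decide +kernel⟩
    · exact ⟨pairEl 0 (1, 1), by decide +kernel⟩
    · exact ⟨pairEl 0 (0, 1), by decide +kernel⟩

theorem plane_gens : ∀ t : V, pt t = pt (axisV 0) ^ t.1.val * (pt (axisV 1) ^ t.2.1.val * pt (axisV 2) ^ t.2.2.val) := by
  decide +kernel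

theorem axis_commutator : ∀ l : Fin 3, ∃ c : Local108,
    c * pt (axisV l) * c⁻¹ * (pt (axisV l))⁻¹ = pt (axisV l) := by decide +kernel

theorem outside_plane : ∀ x : Local108, x.right ≠ 1 → ∃ i, x = pt x.left.toAdd * inv3 i := by decide +kernel

theorem plane_right : ∀ x : Local108, x.right = 1 → x = pt x.left.toAdd := by decide +kernel

theorem involution_fix_small : ∀ a : Local108, a * a = 1 → a ≠ 1 →
    (Finset.univ.filter fun t : V => a * pt t = pt t * a).card = 3 := by decide +kernel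

theorem eq_top_of_local {G : Type*} [Group G] [Finite G] (H : Subgroup G)
    (hH : Nonempty (↥H ≃* ↥(Subgroup.closure ({Equiv.swap (0 : Fin 9) 1 * Equiv.swap 1 2, Equiv.swap (3 : Fin 9) 4 * Equiv.swap 4 5, Equiv.swap (6 : Fin 9) 7 * Equiv.swap 7 8,
        Equiv.swap (0 : Fin 9) 1 * Equiv.swap 3 4, Equiv.swap (0 : Fin 9) 1 * Equiv.swap 6 7} : Set (Equiv.Perm (Fin 9))))))
    (T : Subgroup G) (hTH : T ≤ H) (hT : Nat.card T = 27) (hN : Subgroup.normalizer (T : Set G) = H)
    (hC : ∀ t ∈ T, t ≠ 1 → Subgroup.centralizer ({t} : Set G) ≤ H) : H = ⊤ := by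
  classical
  haveI := Fintype.ofFinite G
  haveI : Fact (Nat.Prime 3) := ⟨Nat.prime_three⟩
  obtain ⟨eH⟩ := hH
  let e₁ : Local108 ≃* toPerm.range :=
    MonoidHom.ofInjective ((injective_iff_map_eq_one toPerm).mpr toPerm_ker)
  let e : Local108 ≃* H := (e₁.trans (MulEquiv.subgroupCongr range_toPerm)).trans eH.symm
  let Φ : Local108 →* G := H.subtype.comp e.toMonoidHom
  have hinj : Function.Injective Φ := Subtype.val_injective.comp e.injective
  have hrange : ∀ g, g ∈ Φ.range ↔ g ∈ H := fun g =>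
    ⟨by rintro ⟨x, rfl⟩; exact (e x).2, fun hg => ⟨e.symm ⟨g, hg⟩, by simp [Φ]⟩⟩
  -- `T` is the image of the plane
  have hpow : ∀ g ∈ T, g ^ 27 = 1 := fun g hg => by
    have := orderOf_dvd_natCard (⟨g, hg⟩ : T)
    rw [hT] at this
    exact congrArg Subtype.val (orderOf_dvd_iff_pow_eq_one.mp this)
  have hTpt : ∀ g ∈ T, ∃ t, Φ (pt t) = g := fun g hg => by
    obtain ⟨x, rfl⟩ := (hrange g).mpr (hTH hg)
    have hx : x ^ 27 = 1 := hinj (by rw [map_pow, map_one, hpow _ hg])
    exact ⟨x.left.toAdd, congrArg Φ (cube_pt x hx).symm⟩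
  choose f hf using fun g : T => hTpt g g.2
  have hfb : Function.Bijective f := (Nat.bijective_iff_injective_and_card f).mpr
    ⟨fun a b hab => Subtype.ext ((hf a).symm.trans ((congrArg (fun t => Φ (pt t)) hab).trans (hf b))),
      by rw [hT, Nat.card_eq_fintype_card]; rfl⟩
  have hptT : ∀ t, Φ (pt t) ∈ T := fun t => by
    obtain ⟨g, rfl⟩ := hfb.2 t
    exact (hf g).symm ▸ g.2
  have hcomm : ∀ x ∈ T, ∀ y ∈ T, x * y = y * x := fun x hx y hy => by
    obtain ⟨t, rfl⟩ := hTpt x hx
    obtain ⟨u, rfl⟩ := hTpt y hy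
    rw [← map_mul, ← map_mul, ← pt_add, ← pt_add, add_comm]
  have hmemN : ∀ g : G, (∀ x ∈ T, g * x * g⁻¹ ∈ H) → g ∈ H := by
    intro g hg
    rw [← hN]
    have hle : T.map (MulAut.conj g).toMonoidHom ≤ T := by
      rintro _ ⟨x, hx, rfl⟩
      obtain ⟨z, hz⟩ := (hrange _).mpr (hg x hx)
      show g * x * g⁻¹ ∈ T
      rw [← hz, cube_pt z (hinj (by rw [map_pow, hz, map_one, conj_pow, hpow x hx, mul_one, mul_inv_cancel]))]
      exact hptT _
    have heq := Subgroup.eq_of_le_of_card_ge hle
      (by rw [Subgroup.card_map_of_injective (MulAut.conj g).injective])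
    refine Subgroup.mem_normalizer_iff.mpr fun m => ⟨fun hm => hle ⟨m, hm, rfl⟩, fun hm => ?_⟩
    rw [← SetLike.mem_coe, ← heq] at hm
    obtain ⟨m', hm', hmm⟩ := hm
    exact (MulAut.conj g).injective hmm ▸ hm'
  have hcard108 : Nat.card H = 108 := by
    rw [← Nat.card_congr e.toEquiv, Nat.card_eq_fintype_card]
    rfl
  have hidx3 : ¬ 3 ∣ T.index := by
    intro hd
    have hdd : 3 ^ (3 + 1) ∣ Nat.card G := by
      obtain ⟨k, hk⟩ := hd
      exact ⟨k, by rw [← Subgroup.card_mul_index T, hT, hk]; ring⟩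
    have h3 := Sylow.prime_dvd_card_quotient_normalizer (p := 3) (n := 3) hdd (H := T) (by rw [hT]; norm_num)
    have hmul := Subgroup.card_mul_index (T.subgroupOf (normalizer (T : Set G)))
    rw [Nat.card_congr (Subgroup.subgroupOfEquivOfLe (Subgroup.le_normalizer (H := T))).toEquiv, hT,
      show Nat.card (normalizer (T : Set G)) = 108 from
        (congrArg (fun S : Subgroup G => Nat.card S) hN).trans hcard108] at hmul
    have h3' : 3 ∣ (T.subgroupOf (normalizer (T : Set G))).index := h3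
    omega
  have hloc : Loc Φ := by
    refine ⟨hinj, fun t u ht g hg => ?_, ⟨T.index, by rw [← hT, Subgroup.card_mul_index], hidx3⟩, fun i hd => ?_⟩
    · refine (hrange g).mpr (hmemN g fun x hx => ?_)
      have hu : Φ (pt u) ≠ 1 := fun e1 => by
        rw [e1, mul_inv_eq_one, mul_eq_left] at hg
        exact ((pt_facts t).2 ht).1 (hinj (hg.trans (map_one Φ).symm))
      refine hC _ (hptT u) hu (Subgroup.mem_centralizer_singleton_iff.mpr ?_)
      rw [← hg]
      calc g * x * g⁻¹ * (g * Φ (pt t) * g⁻¹) = g * (x * Φ (pt t)) * g⁻¹ := by group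
        _ = g * (Φ (pt t) * x) * g⁻¹ := by rw [hcomm x hx _ (hptT t)]
        _ = g * Φ (pt t) * g⁻¹ * (g * x * g⁻¹) := by group
    · set C := Subgroup.centralizer ({Φ (inv3 i)} : Set G) with hCdef
      obtain ⟨K, hK⟩ := Sylow.exists_subgroup_card_pow_prime 3 (G := C) (n := 2) (show 3 ^ 2 ∣ Nat.card C from hd)
      have hKc : Nat.card (K.map C.subtype) = 3 ^ 2 := by
        rw [Subgroup.card_map_of_injective C.subtype_injective, hK]
      have hTcard : Nat.card T = 3 ^ (Nat.card G).factorization 3 := by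
        rw [← Subgroup.card_mul_index T, Nat.factorization_mul (by omega) Subgroup.index_ne_zero_of_finite,
          Finsupp.add_apply, Nat.factorization_eq_zero_of_not_dvd hidx3, add_zero, hT,
          show (27 : ℕ) = 3 ^ 3 by norm_num, Nat.prime_three.factorization_pow, Finsupp.single_eq_same]
      obtain ⟨S, hS⟩ := (IsPGroup.of_card hKc).exists_le_sylow
      obtain ⟨g, hg⟩ := MulAction.exists_smul_eq G (Sylow.ofCard T hTcard) S
      have hsub : ∀ x ∈ K.map C.subtype, g⁻¹ * x * g ∈ T := by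
        intro x hx
        have hx' : x ∈ ((g • Sylow.ofCard T hTcard : Sylow 3 G) : Subgroup G) := hg ▸ hS hx
        obtain ⟨m, hm, rfl⟩ := hx'
        show g⁻¹ * (g * m * g⁻¹) * g ∈ T
        rw [show g⁻¹ * (g * m * g⁻¹) * g = m by group]
        exact hm
      set s' := g⁻¹ * Φ (inv3 i) * g with hs'
      have hcent : ∀ x ∈ K.map C.subtype, s' * (g⁻¹ * x * g) = (g⁻¹ * x * g) * s' := by
        intro x hx
        have hxC : x ∈ C := Subgroup.map_subtype_le K hx
        rw [hCdef, Subgroup.mem_centralizer_singleton_iff] at hxC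
        rw [hs', show g⁻¹ * Φ (inv3 i) * g * (g⁻¹ * x * g) = g⁻¹ * (Φ (inv3 i) * x) * g by group, ← hxC]
        group
      obtain ⟨x₀, hx₀, hx₀1⟩ : ∃ x ∈ K.map C.subtype, x ≠ 1 :=
        (K.map C.subtype).bot_or_exists_ne_one.resolve_left fun hb => by
          rw [hb, Subgroup.card_bot] at hKc; norm_num at hKc
      have hs'H : s' ∈ H := hC _ (hsub x₀ hx₀) (fun e1 => hx₀1 (by
          calc x₀ = g * (g⁻¹ * x₀ * g) * g⁻¹ := by group
            _ = 1 := by rw [e1]; group))
        (Subgroup.mem_centralizer_singleton_iff.mpr (hcent x₀ hx₀))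
      obtain ⟨a, ha⟩ := (hrange s').mpr hs'H
      have hsq : a * a = 1 := hinj (by
        rw [map_mul, ha, map_one, hs', show g⁻¹ * Φ (inv3 i) * g * (g⁻¹ * Φ (inv3 i) * g) =
          g⁻¹ * (Φ (inv3 i) * Φ (inv3 i)) * g by group, ← map_mul, (inv3_facts i).1, map_one]
        group)
      have ha1 : a ≠ 1 := fun e1 => (inv3_facts i).2.1 (hinj (by
        rw [e1, map_one] at ha
        rw [map_one, show Φ (inv3 i) = g * s' * g⁻¹ by rw [hs']; group, ← ha]
        group))
      have h3 := involution_fix_small a hsq ha1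
      have h9 : 9 ≤ (Finset.univ.filter fun t : V => a * pt t = pt t * a).card := by
        rw [show (9 : ℕ) = Nat.card (K.map C.subtype) by rw [hKc]; norm_num, Nat.card_eq_fintype_card,
          ← Finset.card_univ]
        choose u hu using fun x : (K.map C.subtype : Subgroup G) => hTpt _ (hsub x.1 x.2)
        refine Finset.card_le_card_of_injOn u (fun x _ => ?_) (fun x _ y _ hxy => ?_)
        · simp only [Finset.coe_filter, Finset.mem_univ, true_and, Set.mem_setOf_eq]
          refine hinj ?_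
          rw [map_mul, map_mul, ha, hu x]
          exact hcent x.1 x.2
        · have := (hu x).symm.trans ((congrArg (fun t => Φ (pt t)) hxy).trans (hu y))
          exact Subtype.ext (mul_left_cancel (mul_right_cancel this))
      omega
  -- the linear characters
  choose F hF using hloc.exists_linear
  have hFT : ∀ i t, F i (Φ (pt t)) = 1 := by
    intro i t
    have hax : ∀ l, F i (Φ (pt (axisV l))) = 1 := fun l => by
      obtain ⟨c, hc⟩ := axis_commutator l
      rw [← hc, map_mul, map_mul, map_mul, map_mul, map_mul, map_mul, map_inv, map_inv, map_inv, map_inv,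
        mul_inv_cancel_comm, mul_inv_cancel]
    rw [plane_gens]
    simp [map_mul, map_pow, hax]
  set K : Subgroup G := ⨅ i, (F i).ker with hKdef
  have hTK : T ≤ K := fun g hg => Subgroup.mem_iInf.mpr fun i => by
    obtain ⟨t, rfl⟩ := hTpt g hg
    exact hFT i t
  have hKH : ∀ g ∈ K, g ∈ H → g ∈ T := by
    intro g hgK hgH
    obtain ⟨x, rfl⟩ := (hrange g).mpr hgH
    by_cases hx : x.right = 1
    · rw [plane_right x hx]; exact hptT _
    · exfalso
      obtain ⟨i, hi⟩ := outside_plane x hx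
      have hk := Subgroup.mem_iInf.mp hgK i
      rw [MonoidHom.mem_ker, hi, map_mul, map_mul, hFT, one_mul] at hk
      exact hF i hk
  -- Burnside transfer inside `K`
  let TK : Subgroup K := T.subgroupOf K
  have hTKcard : Nat.card TK = 27 := (Nat.card_congr (Subgroup.subgroupOfEquivOfLe hTK).toEquiv).trans hT
  have hTKc : Nat.card TK = 3 ^ (Nat.card K).factorization 3 := by
    have hidx : ¬ 3 ∣ TK.index := fun hd => hidx3 (hd.trans (Subgroup.relIndex_dvd_index_of_le hTK))
    rw [← Subgroup.card_mul_index TK, Nat.factorization_mul (by omega) Subgroup.index_ne_zero_of_finite,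
      Finsupp.add_apply, Nat.factorization_eq_zero_of_not_dvd hidx, add_zero, hTKcard,
      show (27 : ℕ) = 3 ^ 3 by norm_num, Nat.prime_three.factorization_pow, Finsupp.single_eq_same]
  let P : Sylow 3 K := Sylow.ofCard TK hTKc
  have hP : Subgroup.normalizer ((P : Subgroup K) : Set K) ≤ Subgroup.centralizer ((P : Subgroup K) : Set K) := by
    intro k hk
    have hkH : (k : G) ∈ H := hmemN _ fun x hx => by
      have hmem : (⟨x, hTK hx⟩ : K) ∈ (P : Subgroup K) := hx
      exact hTH ((Subgroup.mem_normalizer_iff.mp hk _).mp hmem)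
    rw [Subgroup.mem_centralizer_iff]
    intro y hy
    exact Subtype.ext (hcomm _ hy _ (hKH _ k.2 hkH))
  set R := (MonoidHom.transferSylow P hP).ker with hR
  have hcompl : Subgroup.IsComplement' R (P : Subgroup K) := MonoidHom.ker_transferSylow_isComplement' P hP
  have hRidx : R.index = 27 := by rw [hcompl.symm.index_eq_card]; exact hTKcard
  have hRcop : Nat.Coprime 27 (Nat.card R) := by
    have hPi : TK.index = Nat.card R := hcompl.index_eq_card
    have hn : ¬ 3 ∣ Nat.card R := fun hd => hidx3 ((hPi ▸ hd).trans (Subgroup.relIndex_dvd_index_of_le hTK))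
    exact Nat.Coprime.pow_left 3 ((Nat.prime_three.coprime_iff_not_dvd).mpr hn)
  let R' : Subgroup G := R.map K.subtype
  have hR'card : Nat.card R' = Nat.card R := Subgroup.card_map_of_injective K.subtype_injective
  have hRmem : ∀ k : K, k ∈ R ↔ k ^ Nat.card R = 1 := by
    intro k
    constructor
    · intro hk
      exact congrArg Subtype.val (pow_card_eq_one' (x := (⟨k, hk⟩ : R)))
    · intro hk
      have h1 : (k : K ⧸ R) ^ Nat.card R = 1 := by rw [← QuotientGroup.mk_pow, hk]; rfl
      have h2 : (k : K ⧸ R) ^ 27 = 1 := by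
        have hq : Nat.card (K ⧸ R) = 27 := hRidx
        rw [← hq]; exact pow_card_eq_one'
      rw [← QuotientGroup.eq_one_iff]
      have := pow_gcd_eq_one.mpr ⟨h2, h1⟩
      rwa [Nat.coprime_iff_gcd_eq_one.mp hRcop, pow_one] at this
  haveI hKn : K.Normal := Subgroup.normal_iInf_normal fun i => MonoidHom.normal_ker (F i)
  have hTnorm : T ≤ Subgroup.normalizer (R' : Set G) := by
    intro g _
    have key : ∀ h : G, ∀ x ∈ R', h * x * h⁻¹ ∈ R' := by
      rintro h _ ⟨k, hk, rfl⟩
      refine ⟨⟨h * (k : G) * h⁻¹, hKn.conj_mem _ k.2 h⟩, (hRmem _).mpr (Subtype.ext ?_), rfl⟩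
      have := congrArg Subtype.val ((hRmem k).mp hk)
      simp only [SubgroupClass.coe_pow, OneMemClass.coe_one] at this ⊢
      rw [conj_pow, this, mul_one, mul_inv_cancel]
    refine Subgroup.mem_normalizer_iff.mpr fun x => ⟨key g x, fun hx => ?_⟩
    have := key g⁻¹ _ hx
    rwa [show g⁻¹ * (g * x * g⁻¹) * g⁻¹⁻¹ = x by group] at this
  have hnc : ¬ IsCyclic T := fun hcyc => by
    obtain ⟨g, hg⟩ := IsCyclic.exists_generator (α := T)
    have ho : orderOf g = 27 := by rw [orderOf_eq_card_of_forall_mem_zpowers hg, hT]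
    obtain ⟨t, ht⟩ := hTpt g g.2
    have : g ^ 3 = 1 := Subtype.ext (by
      rw [SubgroupClass.coe_pow, ← ht, ← map_pow, (pt_facts t).1, map_one]; rfl)
    have := orderOf_dvd_of_pow_eq_one this
    rw [ho] at this
    norm_num at this
  have hsup := CfsgLib.Solvable.iSup_centralizer_eq hcomm hnc hTnorm (by rw [hT, hR'card]; exact hRcop)
  have hRT : ∀ x ∈ R', x ∈ T → x = 1 := by
    rintro _ ⟨k, hk, rfl⟩ hkT
    have h0 : k ∈ R ⊓ (P : Subgroup K) := ⟨hk, hkT⟩
    rw [hcompl.disjoint.eq_bot] at h0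
    simp [Subgroup.mem_bot.mp h0]
  have hbot : R' = ⊥ := by
    rw [← hsup, eq_bot_iff]
    refine iSup₂_le fun a ha x hx => Subgroup.mem_bot.mpr (hRT x hx.1 ?_)
    obtain ⟨k, -, rfl⟩ := hx.1
    exact hKH _ k.2 (hC a ha.1 ha.2 hx.2)
  have hKT : K ≤ T := by
    intro g hg
    have hR1 : R = ⊥ := (Subgroup.map_eq_bot_iff_of_injective _ K.subtype_injective).mp hbot
    have htop : (P : Subgroup K) = ⊤ := by
      rw [hR1] at hcompl
      exact Subgroup.isComplement'_bot_left.mp hcompl
    exact (htop ▸ Subgroup.mem_top (⟨g, hg⟩ : K) : (⟨g, hg⟩ : K) ∈ (P : Subgroup K))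
  have hTeq : T = K := le_antisymm hTK hKT
  rw [← hN]
  exact Subgroup.normalizer_eq_top_iff.mpr (hTeq ▸ hKn)

end CfsgLib.SmallGroups.ThreeCube
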