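import Mathlib

/-!
The group `3³ ⋊ 2²` with the involutions negating two coordinates each.
-/

set_option autoImplicit false
set_option maxHeartbeats 1000000

namespace CfsgLib.SmallGroups.ThreeCube

abbrev V := ZMod 3 × ZMod 3 × ZMod 3
abbrev W := ZMod 2 × ZMod 2

/-- Sign change. -/
def flip (b : ZMod 2) (x : ZMod 3) : ZMod 3 := if b = 0 then x else -x

/-- The action of the four-group on the coordinates. -/
def signAct (w : W) (t : V) : V := (flip w.2 t.1, flip w.1 t.2.1, flip (w.1 + w.2) t.2.2)

theorem signAct_add : ∀ w w' t, signAct (w + w') t = signAct w (signAct w' t) := by decide +kernel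

theorem signAct_zero : ∀ t, signAct 0 t = t := by decide +kernel

theorem signAct_hom : ∀ w t u, signAct w (t + u) = signAct w t + signAct w u := by decide +kernel

theorem signAct_self : ∀ w t, signAct w (signAct w t) = t := by decide +kernel

def signAut (w : W) : MulAut (Multiplicative V) where
  toFun t := Multiplicative.ofAdd (signAct w t.toAdd)
  invFun t := Multiplicative.ofAdd (signAct w t.toAdd)
  left_inv t := by simp [signAct_self]
  right_inv t := by simp [signAct_self]
  map_mul' t u := by simp [signAct_hom, ofAdd_add]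

def signHom : Multiplicative W →* MulAut (Multiplicative V) where
  toFun w := signAut w.toAdd
  map_one' := MulEquiv.ext fun t => Multiplicative.toAdd.injective (signAct_zero _)
  map_mul' w w' := MulEquiv.ext fun t => Multiplicative.toAdd.injective (signAct_add _ _ _)

/-- The group of order `108`. -/
abbrev Local108 := Multiplicative V ⋊[signHom] Multiplicative W

instance instFintypeLocal108 : Fintype Local108 := Fintype.ofEquiv _ SemidirectProduct.equivProd.symm

instance instDecidableEqLocal108 : DecidableEq Local108 := fun a b =>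
  decidable_of_iff (a.left = b.left ∧ a.right = b.right) SemidirectProduct.ext_iff.symm

/-- The plane element. -/
def pt (t : V) : Local108 := SemidirectProduct.inl (Multiplicative.ofAdd t)

/-- The element `(t, w)`. -/
def pairEl (t : V) (w : W) : Local108 := ⟨Multiplicative.ofAdd t, Multiplicative.ofAdd w⟩

/-- The three involutions of the four-group; the `i`th fixes coordinate `i`. -/
def axisW : Fin 3 → W := ![(1, 0), (0, 1), (1, 1)]

/-- The coordinate vectors. -/
def axisV : Fin 3 → V := ![(1, 0, 0), (0, 1, 0), (0, 0, 1)]

def inv3 (i : Fin 3) : Local108 := pairEl 0 (axisW i)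

/-- The element of order six on axis `i`. -/
def six3 (i : Fin 3) : Local108 := pairEl (axisV i) (axisW i)

theorem pt_add : ∀ t u, pt (t + u) = pt t * pt u := by decide +kernel

theorem conj_pt : ∀ (a : Local108) t, a * pt t * a⁻¹ = pt (signAct a.right.toAdd t) := by decide +kernel

theorem cube_pt : ∀ x : Local108, x ^ 27 = 1 → x = pt x.left.toAdd := by decide +kernel

theorem pt_facts : ∀ t, pt t ^ 3 = 1 ∧ (t ≠ 0 → pt t ≠ 1 ∧ pt t * pt t ≠ 1) := by decide +kernel

theorem pt_injective : ∀ t u, pt t = pt u → t = u := by decide +kernel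

theorem involution_conj : ∀ x : Local108, x * x = 1 → x ≠ 1 →
    ∃ i c, x.right.toAdd = axisW i ∧ c * inv3 i * c⁻¹ = x := by decide +kernel

theorem inv3_facts : ∀ i, inv3 i * inv3 i = 1 ∧ inv3 i ≠ 1 ∧ (inv3 i).right.toAdd = axisW i ∧
    pt (axisV i) * inv3 i = inv3 i * pt (axisV i) := by decide +kernel

theorem six3_facts : ∀ i, six3 i ^ 4 = pt (axisV i) ∧ six3 i ^ 3 = inv3 i ∧
    (∃ c, c * six3 i * c⁻¹ = (six3 i)⁻¹) ∧
    (Finset.univ.filter fun c => c * six3 i = six3 i * c).card = 6 ∧
    six3 i * six3 i ≠ 1 := by decide +kernel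

theorem six3_not_conj : ∀ i j, i ≠ j → ∀ c, c * six3 i * c⁻¹ ≠ six3 j := by decide +kernel

theorem centralizer_pt : ∀ t, t ≠ 0 → (Finset.univ.filter fun c => c * pt t = pt t * c).card =
    27 * (Finset.univ.filter fun w : W => signAct w t = t).card := by decide +kernel

/-- The sum, over `t ≠ 0` in a set, of a power of a cube root of unity is `N₀ - N₁`. -/
def dotV (l t : V) : ZMod 3 := l.1 * t.1 + l.2.1 * t.2.1 + l.2.2 * t.2.2

theorem dotV_sign : ∀ w l t, dotV l (signAct w t) = dotV (signAct w l) t := by decide +kernel

theorem dotV_add : ∀ l t u, dotV l (t + u) = dotV l t + dotV l u := by decide +kernel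

theorem dotV_sub : ∀ l m t, dotV (l - m) t = dotV l t - dotV m t := by decide +kernel

theorem dot_counts : ∀ l : V, (Finset.univ.filter fun t : V => dotV l t = 1).card =
      (Finset.univ.filter fun t : V => dotV l t = 2).card ∧
    (((Finset.univ.filter fun t : V => dotV l t = 0).card : ℤ) -
      (Finset.univ.filter fun t : V => dotV l t = 1).card) = if l = 0 then 27 else 0 := by decide +kernel

/-- The plane inverted by the `i`th involution. -/
def plane (i : Fin 3) : Finset V := Finset.univ.filter fun t => signAct (axisW i) t = -t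

theorem plane_counts : ∀ i, ∀ l : V, ((plane i).filter fun t => dotV l t = 1).card =
      ((plane i).filter fun t => dotV l t = 2).card ∧
    ((((plane i).filter fun t => dotV l t = 0).card : ℤ) - ((plane i).filter fun t => dotV l t = 1).card) =
      if ∀ t ∈ plane i, dotV l t = 0 then 9 else 0 := by decide +kernel

/-- Pairs of involutions of given kinds with given product in the plane. -/
def pairs108 (i j : Fin 3) (t : V) : ℕ :=
  (Finset.univ.filter fun a : Local108 => a * a = 1 ∧ a ≠ 1 ∧ a.right.toAdd = axisW i ∧
    a * pt t * (a * pt t) = 1 ∧ a * pt t ≠ 1 ∧ (a * pt t).right.toAdd = axisW j).card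

theorem pairs108_eq : ∀ i j t, t ≠ 0 → pairs108 i j t = if i = j ∧ t ∈ plane i then 9 else 0 := by
  decide +kernel

theorem sign_self : ∀ w, w + w = (0 : W) := by decide

end CfsgLib.SmallGroups.ThreeCube
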