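import Mathlib

/-!
Arithmetic of the structure equations.
-/

set_option autoImplicit false

namespace CfsgLib.SmallGroups.ThreeCube

open Matrix

theorem signed_term {σ : ℤ} (hσ : σ * σ = 1) (u u' d : ℚ) :
    (σ : ℚ) * u * u' / d = ((σ : ℚ) * u) * ((σ : ℚ) * u') / ((σ : ℚ) * d) := by
  rcases Int.eq_one_or_neg_one_of_mul_eq_one hσ with e | e <;> subst e <;> push_cast <;> ring

/-- A two-term equation cleared of denominators. -/
theorem two_term {T D A B S S' U U' W W' c : ℚ} (hD : D ≠ 0) (hA : A ≠ 0) (hB : B ≠ 0) (hAB : A + B = D)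
    (hU : U + W = S) (hU' : U' + W' = S') (e : T * (-(S * S' / D) + U * U' / A + W * W' / B) = c) :
    T * ((U * D - S * A) * (U' * D - S' * A)) = c * A * B * D := by
  rw [← e, show W = S - U by linarith, show W' = S' - U' by linarith]
  field_simp
  subst hAB
  ring

theorem three_not_dvd_mul {a b : ℤ} (ha : ¬ (3 : ℤ) ∣ a) (hb : ¬ (3 : ℤ) ∣ b) : ¬ (3 : ℤ) ∣ a * b :=
  fun h => (Int.prime_three.dvd_or_dvd h).elim ha hb

/-- A square equation forbids a factor exactly divisible by three. -/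
theorem no_single_three {t y g A B D : ℤ} (ht : ¬ (3 : ℤ) ∣ t) (hg : ¬ (3 : ℤ) ∣ g) (hA : A % 27 = 3)
    (hB : B % 27 = 1) (hD : D % 27 = 4) (e : t * t * (y * y) = g * A * B * D) : False := by
  have h3 : (3 : ℤ) ∣ y := by
    by_contra hy
    exact three_not_dvd_mul (three_not_dvd_mul ht ht) (three_not_dvd_mul hy hy)
      (e ▸ Dvd.dvd.mul_right (Dvd.dvd.mul_right (Dvd.dvd.mul_left (show (3 : ℤ) ∣ A by omega) g) B) D)
  obtain ⟨z, rfl⟩ := h3
  obtain ⟨a, rfl⟩ : (3 : ℤ) ∣ A := by omega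
  have e' : g * a * B * D = 3 * (t * t * (z * z)) := by linarith
  exact three_not_dvd_mul (three_not_dvd_mul (three_not_dvd_mul hg (by omega)) (by omega)) (by omega) ⟨_, e'⟩

/-- The same equation with all factors prime to three. -/
theorem unit_root {t y g A B D : ℤ} (hg : ¬ (3 : ℤ) ∣ g) (hA : A % 27 = 2) (hB : B % 27 = 2) (hD : D % 27 = 4)
    (e : t * t * (y * y) = g * A * B * D) : ¬ (3 : ℤ) ∣ y := fun hy =>
  three_not_dvd_mul (three_not_dvd_mul (three_not_dvd_mul hg (show ¬ (3 : ℤ) ∣ A by omega))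
    (show ¬ (3 : ℤ) ∣ B by omega)) (show ¬ (3 : ℤ) ∣ D by omega) (e ▸ Dvd.dvd.mul_left (Dvd.dvd.mul_right hy y) (t * t))

/-- Three squares with sum exactly divisible by three are units. -/
theorem all_units {Y : Fin 3 → ℤ} {g D a : ℤ} (hg : ¬ (3 : ℤ) ∣ g) (ha : a % 27 = 1) (hD : D % 27 = 4)
    (e : ∑ i, Y i * Y i = g * D * a * (D - a)) : ∀ i, ¬ (3 : ℤ) ∣ Y i := by
  have hs : ∀ y : ℤ, (y * y) % 3 = 0 ∧ (3 : ℤ) ∣ y ∨ (y * y) % 3 = 1 ∧ ¬ (3 : ℤ) ∣ y := by
    intro y
    have : y % 3 = 0 ∨ y % 3 = 1 ∨ y % 3 = 2 := by omega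
    rcases this with h | h | h <;> rw [Int.mul_emod, h] <;> omega
  rw [Fin.sum_univ_three] at e
  have hR : (3 : ℤ) ∣ g * D * a * (D - a) := Dvd.dvd.mul_left (by omega) _
  rw [← e] at hR
  intro i hi
  have all : (3 : ℤ) ∣ Y 0 ∧ (3 : ℤ) ∣ Y 1 ∧ (3 : ℤ) ∣ Y 2 := by
    rcases hs (Y 0) with h0 | h0 <;> rcases hs (Y 1) with h1 | h1 <;> rcases hs (Y 2) with h2 | h2 <;>
      fin_cases i <;> simp_all <;> omega
  obtain ⟨⟨z0, h0⟩, ⟨z1, h1⟩, ⟨z2, h2⟩⟩ := all
  obtain ⟨k, hk⟩ : (3 : ℤ) ∣ D - a := by omega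
  rw [h0, h1, h2, hk] at e
  refine three_not_dvd_mul (three_not_dvd_mul (three_not_dvd_mul hg (show ¬ (3 : ℤ) ∣ D by omega))
    (show ¬ (3 : ℤ) ∣ a by omega)) (show ¬ (3 : ℤ) ∣ k by omega) ⟨z0 * z0 + z1 * z1 + z2 * z2, ?_⟩
  linarith

/-- Completeness of three vectors of equal length for a form with inverse `M`. -/
theorem dual_gram {Z Q M : Matrix (Fin 3) (Fin 3) ℚ} {g : ℚ} (hg : g ≠ 0)
    (h : Z.transpose * Q * Z = g • (1 : Matrix (Fin 3) (Fin 3) ℚ)) (hQM : Q * M = 1) :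
    Z * Z.transpose = g • M := by
  have h1 : (g⁻¹ • (Z.transpose * Q)) * Z = 1 := by
    rw [Matrix.smul_mul, h, smul_smul, inv_mul_cancel₀ hg, one_smul]
  have h2 := mul_eq_one_comm.mp h1
  rw [Matrix.mul_smul] at h2
  have h3 : Z * (Z.transpose * Q) = g • (1 : Matrix (Fin 3) (Fin 3) ℚ) := by
    rw [← h2, smul_smul, mul_inv_cancel₀ hg, one_smul]
  calc Z * Z.transpose = Z * (Z.transpose * (Q * M)) := by rw [hQM, Matrix.mul_one]
    _ = (Z * (Z.transpose * Q)) * M := by simp only [Matrix.mul_assoc]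
    _ = g • M := by rw [h3, Matrix.smul_mul, Matrix.one_mul]

/-- The diagonal of the completeness relation. -/
theorem beta_completion {U : Fin 3 → Fin 3 → ℤ} {a S t : Fin 3 → ℤ} {D g : ℤ} (ha : ∀ k, a k ≠ 0)
    (hD : D = 1 + ∑ k, a k) (hD0 : D ≠ 0) (hg : g ≠ 0) (hS : ∀ i, ∑ k, U i k = S i)
    (e : ∀ i j, (t i : ℚ) * t j * (∑ k, (U i k : ℚ) * U j k / a k - (S i : ℚ) * S j / D) =
      if i = j then (g : ℚ) else 0) (k : Fin 3) :
    ∑ i, (t i * (U i k * D - S i * a k)) * (t i * (U i k * D - S i * a k)) = g * D * a k * (D - a k) := by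
  have ha' : ∀ k, (a k : ℚ) ≠ 0 := fun k => by exact_mod_cast ha k
  have hD' : (D : ℚ) ≠ 0 := by exact_mod_cast hD0
  have hsum : (D : ℚ) = 1 + ∑ k, (a k : ℚ) := by rw [hD]; push_cast; rfl
  set Z : Matrix (Fin 3) (Fin 3) ℚ := Matrix.of fun k i => (t i : ℚ) * U i k
  set Q : Matrix (Fin 3) (Fin 3) ℚ := Matrix.of fun k l => (if k = l then 1 / (a k : ℚ) else 0) - 1 / D
  set M : Matrix (Fin 3) (Fin 3) ℚ := Matrix.of fun k l => (if k = l then (a k : ℚ) else 0) + a k * a l
  have hQM : Q * M = 1 := by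
    ext l n
    simp only [Q, M, Matrix.mul_apply, Matrix.of_apply, Matrix.one_apply, sub_mul, mul_add, Finset.sum_sub_distrib,
      Finset.sum_add_distrib, ite_mul, zero_mul, mul_ite, mul_zero, Finset.sum_ite_eq, Finset.sum_ite_eq',
      Finset.mem_univ, if_true, ← Finset.sum_mul, ← Finset.mul_sum]
    have hl := ha' l
    by_cases hln : l = n
    · subst hln
      simp only [if_pos]
      field_simp
      rw [hsum]; ring
    · simp only [if_neg hln]
      field_simp
      rw [hsum]; ring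
  have hS' : ∀ i, ∑ l, (U i l : ℚ) = S i := fun i => by exact_mod_cast hS i
  have hZ : Z.transpose * Q * Z = (g : ℚ) • (1 : Matrix (Fin 3) (Fin 3) ℚ) := by
    ext i j
    rw [Matrix.smul_apply, Matrix.one_apply, smul_eq_mul, mul_ite, mul_one, mul_zero, ← e i j, ← hS' i, ← hS' j]
    simp only [Z, Q, Matrix.mul_apply, Matrix.of_apply, Matrix.transpose_apply, Fin.sum_univ_three]
    simp
    ring
  have hZZ := dual_gram (by exact_mod_cast hg) hZ hQM
  have key : ∀ l n, ∑ i, ((t i : ℚ) * U i l) * ((t i : ℚ) * U i n) =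
      g * ((if l = n then (a l : ℚ) else 0) + a l * a n) := fun l n => by
    have := congrFun (congrFun hZZ l) n
    simpa [Z, M, Matrix.mul_apply, Matrix.smul_apply] using this
  refine Int.cast_injective (α := ℚ) ?_
  push_cast
  simp only [← hS', Fin.sum_univ_three] at key hsum ⊢
  fin_cases k <;>
  · have k00 := key 0 0; have k01 := key 0 1; have k02 := key 0 2
    have k11 := key 1 1; have k12 := key 1 2; have k22 := key 2 2
    simp (discharger := decide) only [if_pos, if_neg, if_true] at k00 k01 k02 k11 k12 k22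
    simp only [Fin.zero_eta, Fin.mk_one, Fin.reduceFinMk]
    rw [hsum]
    first
      | linear_combination ((1 + (a 0 : ℚ) + a 1 + a 2) - a 0) ^ 2 * k00 +
          (a 0 : ℚ) ^ 2 * (k11 + k22 + 2 * k12) - 2 * ((1 + (a 0 : ℚ) + a 1 + a 2) - a 0) * a 0 * (k01 + k02)
      | linear_combination ((1 + (a 0 : ℚ) + a 1 + a 2) - a 1) ^ 2 * k11 +
          (a 1 : ℚ) ^ 2 * (k00 + k22 + 2 * k02) - 2 * ((1 + (a 0 : ℚ) + a 1 + a 2) - a 1) * a 1 * (k01 + k12)
      | linear_combination ((1 + (a 0 : ℚ) + a 1 + a 2) - a 2) ^ 2 * k22 +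
          (a 2 : ℚ) ^ 2 * (k00 + k11 + 2 * k01) - 2 * ((1 + (a 0 : ℚ) + a 1 + a 2) - a 2) * a 2 * (k02 + k12)

/-- The solution of the last system. -/
theorem plane_solution {b : Fin 3 → ℤ} {V : Fin 3 → Fin 3 → ℤ} {S t : Fin 3 → ℤ} {D g : ℤ} (hb : ∀ l, b l ≠ 0)
    (hD : D = 1 + ∑ l, b l) (hD0 : D ≠ 0) (hg : g ≠ 0)
    (hcross : ∀ i l, i ≠ l → D * V i l = S i * (1 + b l)) (hsum : ∀ i, ∑ l, V i l = S i)
    (e : ∀ i j, (t i : ℚ) * t j * (∑ l, (V i l : ℚ) * V j l / b l - (S i : ℚ) * S j / D) =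
      if i = j then (g : ℚ) else 0) : ∀ l, b l = 1 ∧ ∀ i, i ≠ l → V i l ≠ 0 := by
  have hD' : (D : ℚ) ≠ 0 := by exact_mod_cast hD0
  have hg' : (g : ℚ) ≠ 0 := by exact_mod_cast hg
  have hb' : ∀ l, (b l : ℚ) ≠ 0 := fun l => by exact_mod_cast hb l
  have hVq : ∀ i l, (V i l : ℚ) = S i * (1 + b l - if i = l then 2 else 0) / D := by
    intro i l
    rw [eq_div_iff hD']
    by_cases hil : i = l
    · subst hil
      rw [if_pos rfl]
      have c : ∀ m, i ≠ m → D * V i m = S i * (1 + b m) := fun m hm => hcross i m hm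
      have s := hsum i
      rw [Fin.sum_univ_three] at s hD
      have : V i i * D = S i * (b i - 1) := by
        fin_cases i <;> simp at c s ⊢ <;> subst hD <;>
          [linear_combination (1 + b 0 + b 1 + b 2) * s - c 1 (by decide) - c 2 (by decide);
           linear_combination (1 + b 0 + b 1 + b 2) * s - c 0 (by decide) - c 2 (by decide);
           linear_combination (1 + b 0 + b 1 + b 2) * s - c 0 (by decide) - c 1 (by decide)]
      calc (V i i : ℚ) * D = ((V i i * D : ℤ) : ℚ) := by push_cast; ring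
        _ = _ := by rw [this]; push_cast; ring
    · rw [if_neg hil]
      calc (V i l : ℚ) * D = ((D * V i l : ℤ) : ℚ) := by push_cast; ring
        _ = _ := by rw [hcross i l hil]; push_cast; ring
  have hSt : ∀ i, (S i : ℚ) ≠ 0 ∧ (t i : ℚ) ≠ 0 := by
    intro i
    constructor <;> intro hz <;> have := e i i <;> rw [if_pos rfl] at this
    · simp [hVq, hz] at this; exact hg' this.symm
    · rw [hz, zero_mul, zero_mul] at this; exact hg' this.symm
  have hoff : ∀ i j, i ≠ j → ∑ l, (1 + (b l : ℚ) - if i = l then 2 else 0) * (1 + b l - if j = l then 2 else 0) / b l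
      - D = 0 := by
    intro i j hij
    have := e i j
    rw [if_neg hij] at this
    have h1 := (mul_eq_zero.mp this).resolve_left (mul_ne_zero (hSt i).2 (hSt j).2)
    have h2 : (S i : ℚ) * S j / D ^ 2 * (∑ l, (1 + (b l : ℚ) - if i = l then 2 else 0) *
        (1 + b l - if j = l then 2 else 0) / b l - D) = 0 := by
      refine Eq.trans ?_ h1
      rw [mul_sub, Finset.mul_sum]
      congr 1
      · refine Finset.sum_congr rfl fun l _ => ?_
        rw [hVq, hVq]
        field_simp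
      · field_simp
    exact (mul_eq_zero.mp h2).resolve_left (div_ne_zero (mul_ne_zero (hSt i).1 (hSt j).1) (pow_ne_zero 2 hD'))
  have hDq : (D : ℚ) = 1 + b 0 + b 1 + b 2 := by rw [hD, Fin.sum_univ_three]; push_cast; ring
  have q01 := hoff 0 1 (by decide)
  have q02 := hoff 0 2 (by decide)
  have q12 := hoff 1 2 (by decide)
  simp (discharger := decide) only [Fin.sum_univ_three, if_pos, if_neg, if_true, sub_zero, hDq] at q01 q02 q12
  have n0 := hb' 0; have n1 := hb' 1; have n2 := hb' 2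
  have r : ∀ x : ℚ, x ≠ 0 → 2 - 2 / x = 0 → x = 1 := fun x hx hh => by
    field_simp at hh; linarith
  have r01 : (1 : ℚ) + 1 / b 2 - 1 / b 0 - 1 / b 1 = 0 := Eq.trans (by field_simp; ring) q01
  have r02 : (1 : ℚ) + 1 / b 1 - 1 / b 0 - 1 / b 2 = 0 := Eq.trans (by field_simp; ring) q02
  have r12 : (1 : ℚ) + 1 / b 0 - 1 / b 1 - 1 / b 2 = 0 := Eq.trans (by field_simp; ring) q12
  have b0 : (b 0 : ℚ) = 1 := r _ n0 (by linear_combination r01 + r02)
  have b1 : (b 1 : ℚ) = 1 := r _ n1 (by linear_combination r01 + r12)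
  have b2 : (b 2 : ℚ) = 1 := r _ n2 (by linear_combination r02 + r12)
  have hall : ∀ l, b l = 1 := by
    intro l; fin_cases l
    exacts [by exact_mod_cast b0, by exact_mod_cast b1, by exact_mod_cast b2]
  refine fun l => ⟨hall l, fun i hil hz => ?_⟩
  have := hcross i l hil
  rw [hz, hall l, mul_zero] at this
  exact (hSt i).1 (by exact_mod_cast (show S i = 0 by linarith))

end CfsgLib.SmallGroups.ThreeCube
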