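import Cfsg.Agent.Lib.SmallGroups.ThreeCube.Model
import Cfsg.Agent.Lib.SmallGroups.DihedralThree.Local
import Cfsg.Agent.Lib.Char.ClassAlgebra
import Cfsg.Agent.Lib.InvolChar.Basic
import Mathlib

/-!
Multiplicities on the plane and structure constants for a local subgroup `3³ ⋊ 2²`.
-/

set_option autoImplicit false

namespace CfsgLib.SmallGroups.ThreeCube

open Cfsg CfsgLib.Char CfsgLib.InvolChar
open CfsgLib.SmallGroups.DihedralThree (twisted_sum value_conj sum_shift total)
open scoped ComplexConjugate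

/-- A cube root of unity. -/
noncomputable def omega : ℂˣ := (Complex.isPrimitiveRoot_exp 3 (by norm_num)).isUnit (by norm_num) |>.unit

theorem omega_cube : omega ^ 3 = 1 :=
  Units.ext (by rw [Units.val_pow_eq_pow_val]; exact (Complex.isPrimitiveRoot_exp 3 (by norm_num)).pow_eq_one)

theorem omega_sum : (1 : ℂ) + omega + (omega : ℂ) ^ 2 = 0 := by
  have h1 : (omega : ℂ) - 1 ≠ 0 :=
    sub_ne_zero.mpr fun e => (Complex.isPrimitiveRoot_exp 3 (by norm_num)).ne_one (by norm_num) e
  have h3 : (omega : ℂ) ^ 3 = 1 := by rw [← Units.val_pow_eq_pow_val, omega_cube, Units.val_one]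
  exact (mul_eq_zero.mp (show ((omega : ℂ) - 1) * (1 + omega + (omega : ℂ) ^ 2) = 0 by
    linear_combination h3)).resolve_left h1

/-- Powers of the cube root of unity, as a character of `ZMod 3`. -/
noncomputable def phase (a : ZMod 3) : ℂˣ := omega ^ a.val

theorem phase_add (a b : ZMod 3) : phase (a + b) = phase a * phase b := by
  rw [phase, phase, phase, ← pow_add, ZMod.val_add]
  conv_rhs => rw [← Nat.mod_add_div (a.val + b.val) 3, pow_add, pow_mul, omega_cube, one_pow, mul_one]

theorem phase_zero : phase 0 = 1 := by simp [phase]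

theorem phase_sub (a b : ZMod 3) : (phase (a - b) : ℂ) = (phase a : ℂ) * conj (phase b : ℂ) := by
  have hn : ‖(phase b : ℂ)‖ = 1 := by
    refine Complex.norm_eq_one_of_pow_eq_one (n := 3) ?_ (by norm_num)
    rw [← Units.val_pow_eq_pow_val, phase, ← pow_mul, mul_comm, pow_mul, omega_cube, one_pow, Units.val_one]
  have h : (phase (a - b) : ℂ) * (phase b : ℂ) = (phase a : ℂ) := by
    rw [← Units.val_mul, ← phase_add, sub_add_cancel]
  rw [← h, mul_assoc, Complex.mul_conj']
  simp [hn]

/-- A sum of phases over a set, from the counts. -/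
theorem sum_phase (s : Finset V) (l : V) (h : (s.filter fun t => dotV l t = 1).card = (s.filter fun t => dotV l t = 2).card) :
    ∑ t ∈ s, (phase (dotV l t) : ℂ) =
      (((s.filter fun t => dotV l t = 0).card : ℤ) - (s.filter fun t => dotV l t = 1).card : ℤ) := by
  rw [← Finset.sum_fiberwise s (dotV l) (fun t => (phase (dotV l t) : ℂ))]
  rw [Finset.sum_congr rfl fun a _ => (Finset.sum_congr rfl fun t ht => by
    rw [(Finset.mem_filter.mp ht).2] : ∑ t ∈ s.filter (fun t => dotV l t = a), (phase (dotV l t) : ℂ) =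
      ∑ t ∈ s.filter (fun t => dotV l t = a), (phase a : ℂ))]
  simp only [Finset.sum_const, nsmul_eq_mul]
  rw [show (Finset.univ : Finset (ZMod 3)) = {0, 1, 2} by decide]
  simp (discharger := decide) [Finset.sum_insert, phase, show (1 : ZMod 3).val = 1 from rfl,
    show (2 : ZMod 3).val = 2 from rfl]
  rw [← h]
  linear_combination ((s.filter fun t => dotV l t = 1).card : ℂ) * omega_sum

theorem sum_phase_univ (l : V) : ∑ t : V, (phase (dotV l t) : ℂ) = if l = 0 then 27 else 0 := by
  rw [sum_phase Finset.univ l (dot_counts l).1, (dot_counts l).2]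
  split_ifs <;> simp

theorem sum_phase_plane (i : Fin 3) (l : V) :
    ∑ t ∈ plane i, (phase (dotV l t) : ℂ) = if ∀ t ∈ plane i, dotV l t = 0 then 9 else 0 := by
  rw [sum_phase (plane i) l (plane_counts i l).1, (plane_counts i l).2]
  split_ifs <;> simp

theorem dotV_comm : ∀ l t, dotV l t = dotV t l := by decide +kernel

theorem orbit_count : ∀ t s : V, (Finset.univ.filter fun w : W => signAct w t = s).card =
    if ∃ w, signAct w t = s then (Finset.univ.filter fun w : W => signAct w t = t).card else 0 := by decide +kernel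

variable {G : Type*} [Group G] {Φ : Local108 →* G}

/-- The plane controls centralizers and fusion of its elements. -/
structure Loc (Φ : Local108 →* G) : Prop where
  inj : Function.Injective Φ
  fus : ∀ t u : V, t ≠ 0 → ∀ g : G, g * Φ (pt t) * g⁻¹ = Φ (pt u) → g ∈ Φ.range
  sylow : ∃ G₀ : ℕ, Nat.card G = 27 * G₀ ∧ ¬ 3 ∣ G₀
  inv9 : ∀ i, ¬ 9 ∣ Nat.card (Subgroup.centralizer ({Φ (inv3 i)} : Set G))

theorem Loc.isConj_pt (h : Loc Φ) {t s : V} (ht : t ≠ 0) :
    IsConj (Φ (pt t)) (Φ (pt s)) ↔ ∃ w, signAct w t = s := by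
  constructor
  · intro hc
    obtain ⟨g, hg⟩ := isConj_iff.mp hc
    obtain ⟨a, rfl⟩ := h.fus t s ht g hg
    rw [← map_inv, ← map_mul, ← map_mul, conj_pt] at hg
    exact ⟨_, pt_injective _ _ (h.inj hg)⟩
  · rintro ⟨w, rfl⟩
    refine isConj_iff.mpr ⟨Φ (pairEl 0 w), ?_⟩
    rw [← map_inv, ← map_mul, ← map_mul, conj_pt]
    exact congrArg (fun u => Φ (pt (signAct u t))) rfl

theorem Loc.card_centralizer_pt (h : Loc Φ) {t : V} (ht : t ≠ 0) :
    Nat.card (Subgroup.centralizer ({Φ (pt t)} : Set G)) = 27 * (Finset.univ.filter fun w : W => signAct w t = t).card := by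
  rw [← centralizer_pt t ht, ← Fintype.card_subtype, ← Nat.card_eq_fintype_card]
  refine (Nat.card_eq_of_bijective
    (fun c : {c : Local108 // c * pt t = pt t * c} => (⟨Φ c.1, Subgroup.mem_centralizer_singleton_iff.mpr
      (by rw [← map_mul, ← map_mul, c.2])⟩ : Subgroup.centralizer ({Φ (pt t)} : Set G))) ⟨?_, ?_⟩).symm
  · exact fun a b e => Subtype.ext (h.inj (congrArg Subtype.val e))
  · rintro ⟨g, hg⟩
    rw [Subgroup.mem_centralizer_singleton_iff] at hg
    obtain ⟨c, rfl⟩ := h.fus t t ht g (by rw [hg, mul_inv_cancel_right])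
    exact ⟨⟨c, h.inj (by simpa using hg)⟩, rfl⟩

theorem Loc.not_conj_sq (h : Loc Φ) {x : G} (hx : x * x = 1) {t : V} (ht : t ≠ 0) : ¬ IsConj x (Φ (pt t)) := by
  intro hc
  obtain ⟨g, hg⟩ := isConj_iff.mp hc
  refine ((pt_facts t).2 ht).2 (h.inj ?_)
  rw [map_mul, map_one, ← hg, show g * x * g⁻¹ * (g * x * g⁻¹) = g * (x * x) * g⁻¹ by group, hx]
  simp

/-- `Φ` on the plane. -/
def planeMap (Φ : Local108 →* G) : Multiplicative V →* G := Φ.comp SemidirectProduct.inl

/-- The linear character of the plane given by `l`. -/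
noncomputable def planeChar (l : V) : Multiplicative V →* ℂˣ where
  toFun t := phase (dotV l t.toAdd)
  map_one' := by rw [show dotV l (1 : Multiplicative V).toAdd = 0 by simp [dotV], phase_zero]
  map_mul' t u := by rw [toAdd_mul, dotV_add, phase_add]

variable [Fintype G]

theorem exists_mult (Φ : Local108 →* G) (χ : IrrCharacter G) (l : V) :
    ∃ z : ℤ, ∑ t : V, (χ : G → ℂ) (Φ (pt t)) * (phase (dotV l t) : ℂ) = 27 * (z : ℂ) := by
  obtain ⟨z, hz⟩ := twisted_sum (planeMap Φ) (planeChar l) χ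
  refine ⟨z, ?_⟩
  rw [show (27 : ℂ) = (Fintype.card (Multiplicative V) : ℂ) by simp [V], ← hz]
  exact (Equiv.sum_comp Multiplicative.toAdd (fun t => (χ : G → ℂ) (Φ (pt t)) * (phase (dotV l t) : ℂ))).symm

/-- The multiplicity of a linear character of the plane. -/
noncomputable def mult (Φ : Local108 →* G) (χ : IrrCharacter G) (l : V) : ℤ := (exists_mult Φ χ l).choose

theorem mult_spec (χ : IrrCharacter G) (l : V) :
    ∑ t : V, (χ : G → ℂ) (Φ (pt t)) * (phase (dotV l t) : ℂ) = 27 * (mult Φ χ l : ℂ) :=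
  (exists_mult Φ χ l).choose_spec

theorem mult_sign (χ : IrrCharacter G) (w : W) (l : V) : mult Φ χ (signAct w l) = mult Φ χ l := by
  have e : ∑ t : V, (χ : G → ℂ) (Φ (pt t)) * (phase (dotV (signAct w l) t) : ℂ) =
      ∑ t : V, (χ : G → ℂ) (Φ (pt t)) * (phase (dotV l t) : ℂ) := by
    refine Finset.sum_bij' (fun t _ => signAct w t) (fun t _ => signAct w t) (fun _ _ => Finset.mem_univ _)
      (fun _ _ => Finset.mem_univ _) (fun t _ => signAct_self w t) (fun t _ => signAct_self w t) fun t _ => ?_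
    rw [dotV_sign w l t]
    congr 1
    refine value_conj χ (isConj_iff.mpr ⟨Φ (pairEl 0 w), ?_⟩)
    rw [← map_inv, ← map_mul, ← map_mul, conj_pt]
    rfl
  rw [mult_spec, mult_spec] at e
  exact_mod_cast mul_left_cancel₀ (show (27 : ℂ) ≠ 0 by norm_num) e

theorem mult_irrOne (l : V) : mult Φ (irrOne : IrrCharacter G) l = if l = 0 then 1 else 0 := by
  have e := mult_spec (Φ := Φ) (irrOne : IrrCharacter G) l
  simp only [irrOne_apply, one_mul, sum_phase_univ] at e
  split_ifs at e ⊢ with hl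
  · have : (27 : ℂ) * (1 : ℤ) = 27 * (mult Φ (irrOne : IrrCharacter G) l : ℂ) := by rw [← e]; simp
    exact_mod_cast (mul_left_cancel₀ (show (27 : ℂ) ≠ 0 by norm_num) this).symm
  · simpa using e.symm

theorem mult_total (χ : IrrCharacter G) : ∑ l : V, mult Φ χ l = (deg χ : ℤ) := by
  have e : (27 : ℂ) * ((∑ l : V, mult Φ χ l : ℤ) : ℂ) = 27 * ((deg χ : ℤ) : ℂ) := by
    rw [Int.cast_sum, Finset.mul_sum, Finset.sum_congr rfl fun l _ => (mult_spec (Φ := Φ) χ l).symm, Finset.sum_comm]
    rw [Finset.sum_eq_single (0 : V)]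
    · rw [← Finset.mul_sum, show pt 0 = 1 from rfl, map_one, deg_spec]
      simp only [dotV_comm _ (0 : V), sum_phase_univ, if_pos rfl]
      push_cast; ring
    · intro t _ ht
      rw [← Finset.mul_sum]
      simp only [dotV_comm _ t, sum_phase_univ, if_neg ht, mul_zero]
    · simp
  exact_mod_cast mul_left_cancel₀ (show (27 : ℂ) ≠ 0 by norm_num) e

theorem Loc.orth_plane (h : Loc Φ) (t s : V) :
    ∑ χ : IrrCharacter G, (χ : G → ℂ) (Φ (pt t)) * conj ((χ : G → ℂ) (Φ (pt s))) =
      if t = 0 then (if s = 0 then (Nat.card G : ℂ) else 0)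
      else 27 * ((Finset.univ.filter fun w : W => signAct w t = s).card : ℂ) := by
  classical
  by_cases ht : t = 0
  · subst ht
    rw [if_pos rfl, second_orthogonality]
    by_cases hs : s = 0
    · subst hs
      rw [if_pos (IsConj.refl _), if_pos rfl, show pt 0 = 1 from rfl, map_one]
      rw [show Subgroup.centralizer ({1} : Set G) = ⊤ from
        (Subgroup.centralizer_eq_top_iff_subset).mpr (by simp), Subgroup.card_top]
    · rw [if_neg hs, if_neg (h.not_conj_sq (by rw [show pt 0 = 1 from rfl, map_one, one_mul]) hs)]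
  · rw [if_neg ht, second_orthogonality, orbit_count]
    by_cases hw : ∃ w, signAct w t = s
    · rw [if_pos ((h.isConj_pt ht).mpr hw), if_pos hw, h.card_centralizer_pt ht]; push_cast; ring
    · rw [if_neg (fun hc => hw ((h.isConj_pt ht).mp hc)), if_neg hw]; simp

theorem Loc.mult_mul (h : Loc Φ) (l m : V) :
    729 * ∑ χ : IrrCharacter G, (mult Φ χ l : ℂ) * (mult Φ χ m : ℂ) =
      (Nat.card G : ℂ) - 108 + 729 * ((Finset.univ.filter fun w : W => signAct w m = l).card : ℂ) := by
  classical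
  have e : ∀ χ : IrrCharacter G, 729 * ((mult Φ χ l : ℂ) * (mult Φ χ m : ℂ)) =
      ∑ t : V, ∑ s : V, (phase (dotV l t) : ℂ) * conj (phase (dotV m s) : ℂ) *
        ((χ : G → ℂ) (Φ (pt t)) * conj ((χ : G → ℂ) (Φ (pt s)))) := by
    intro χ
    rw [show 729 * ((mult Φ χ l : ℂ) * (mult Φ χ m : ℂ)) = (27 * (mult Φ χ l : ℂ)) * conj (27 * (mult Φ χ m : ℂ)) by
      rw [map_mul, show conj (27 : ℂ) = 27 from map_ofNat _ _, map_intCast]; ring,
      ← mult_spec, ← mult_spec, map_sum, Finset.sum_mul_sum]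
    exact Finset.sum_congr rfl fun t _ => Finset.sum_congr rfl fun s _ => by rw [map_mul]; ring
  rw [Finset.mul_sum, Finset.sum_congr rfl fun χ _ => e χ, Finset.sum_comm]
  rw [Finset.sum_congr rfl fun t _ => Finset.sum_comm]
  simp only [← Finset.mul_sum, h.orth_plane]
  rw [← Finset.add_sum_erase _ _ (Finset.mem_univ (0 : V))]
  have h0 : ∑ s : V, (phase (dotV l 0) : ℂ) * conj (phase (dotV m s) : ℂ) *
      (if (0 : V) = 0 then (if s = 0 then (Nat.card G : ℂ) else 0)
        else 27 * ((Finset.univ.filter fun w : W => signAct w 0 = s).card : ℂ)) = Nat.card G := by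
    simp only [if_pos, mul_ite, mul_zero, Finset.sum_ite_eq', Finset.mem_univ, if_true]
    simp [dotV, phase_zero]
  rw [h0, Finset.sum_congr rfl (g := fun t => 27 * ∑ w : W, (phase (dotV (l - signAct w m) t) : ℂ)) fun t ht => ?_]
  · have hw : ∀ w : W, ∑ t ∈ Finset.univ.erase (0 : V), (phase (dotV (l - signAct w m) t) : ℂ) =
        (if signAct w m = l then 27 else 0) - 1 := fun w => by
      rw [← Finset.sum_erase_add _ _ (Finset.mem_univ (0 : V))] at *
      have := Finset.sum_erase_add (s := Finset.univ) (f := fun t : V => (phase (dotV (l - signAct w m) t) : ℂ))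
        (Finset.mem_univ (0 : V))
      rw [sum_phase_univ, show dotV (l - signAct w m) 0 = 0 by simp [dotV], phase_zero, Units.val_one] at this
      rw [eq_sub_iff_add_eq, this]
      exact if_congr (sub_eq_zero.trans eq_comm) rfl rfl
    rw [← Finset.mul_sum, Finset.sum_comm, Finset.sum_congr rfl fun w _ => hw w, Finset.sum_sub_distrib,
      Finset.sum_ite, Finset.sum_const_zero, add_zero, Finset.sum_const, Finset.sum_const, Finset.card_univ]
    simp; ring
  · simp only [if_neg (Finset.ne_of_mem_erase ht)]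
    simp only [Finset.card_filter, Nat.cast_sum, Finset.mul_sum, Nat.cast_ite, Nat.cast_one, Nat.cast_zero]
    rw [Finset.sum_comm]
    refine Finset.sum_congr rfl fun w _ => ?_
    rw [Finset.sum_eq_single (signAct w t)]
    · simp only [if_pos rfl, mul_one, if_true]
      rw [dotV_sub, phase_sub, ← dotV_sign w m t]; ring
    · intro s _ hs; rw [if_neg (Ne.symm hs)]; ring
    · simp

/-- The Gram matrix of differences of multiplicities. -/
theorem Loc.gram (h : Loc Φ) (l l' m m' : V) :
    ∑ χ : IrrCharacter G, (mult Φ χ l - mult Φ χ l') * (mult Φ χ m - mult Φ χ m') =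
      ((Finset.univ.filter fun w : W => signAct w m = l).card : ℤ) -
        (Finset.univ.filter fun w : W => signAct w m' = l).card -
        (Finset.univ.filter fun w : W => signAct w m = l').card +
        (Finset.univ.filter fun w : W => signAct w m' = l').card := by
  set a := h.mult_mul l m
  have b := h.mult_mul l m'
  have c := h.mult_mul l' m
  have d := h.mult_mul l' m'
  have e : (729 : ℂ) * ((∑ χ : IrrCharacter G, (mult Φ χ l - mult Φ χ l') * (mult Φ χ m - mult Φ χ m') : ℤ) : ℂ) =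
      729 * (((Finset.univ.filter fun w : W => signAct w m = l).card : ℤ) -
        (Finset.univ.filter fun w : W => signAct w m' = l).card -
        (Finset.univ.filter fun w : W => signAct w m = l').card +
        (Finset.univ.filter fun w : W => signAct w m' = l').card : ℤ) := by
    push_cast
    simp only [sub_mul, mul_sub, Finset.sum_sub_distrib]
    linear_combination h.mult_mul l m - b - c + d
  exact_mod_cast mul_left_cancel₀ (show (729 : ℂ) ≠ 0 by norm_num) e

/-- Differences of multiplicities are orthogonal to the values at `1` and at involutions. -/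
theorem Loc.sum_mult_mul (h : Loc Φ) {x : G} (hx : x * x = 1) (l m : V) :
    ∑ χ : IrrCharacter G, ((mult Φ χ l : ℂ) - (mult Φ χ m : ℂ)) * (χ : G → ℂ) x = 0 := by
  classical
  have hreal : IsConj x x⁻¹ := by rw [inv_eq_of_mul_eq_one_left hx]
  have hz : ∀ t : V, t ≠ 0 → ∑ χ : IrrCharacter G, (χ : G → ℂ) (Φ (pt t)) * (χ : G → ℂ) x = 0 := by
    intro t ht
    have := second_orthogonality (Φ (pt t)) x
    rw [if_neg fun hc => h.not_conj_sq hx ht hc.symm] at this
    rw [← this]
    refine Finset.sum_congr rfl fun χ _ => ?_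
    rw [← char_inv (isCharacter_of_isIrr χ.2), ← value_conj χ hreal]
  refine mul_left_cancel₀ (show (27 : ℂ) ≠ 0 by norm_num) ?_
  rw [mul_zero, Finset.mul_sum]
  simp only [← mul_assoc, mul_sub, ← mult_spec, ← Finset.sum_sub_distrib, Finset.sum_mul]
  rw [Finset.sum_comm]
  refine Finset.sum_eq_zero fun t _ => ?_
  by_cases ht : t = 0
  · subst ht; simp [dotV]
  · rw [Finset.sum_congr rfl fun (χ : IrrCharacter G) _ => show ((χ : G → ℂ) (Φ (pt t)) * (phase (dotV l t) : ℂ) -
        (χ : G → ℂ) (Φ (pt t)) * (phase (dotV m t) : ℂ)) * (χ : G → ℂ) x =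
      ((phase (dotV l t) : ℂ) - (phase (dotV m t) : ℂ)) * ((χ : G → ℂ) (Φ (pt t)) * (χ : G → ℂ) x) by ring,
      ← Finset.mul_sum, hz t ht, mul_zero]

/-- The class of the `i`th involution. -/
noncomputable def kindSet (Φ : Local108 →* G) (i : Fin 3) : Finset G := by
  classical exact Finset.univ.filter fun x => IsConj (Φ (inv3 i)) x

theorem mem_kindSet {i : Fin 3} {x : G} : x ∈ kindSet Φ i ↔ IsConj (Φ (inv3 i)) x := by simp [kindSet]

theorem kindSet_sq {i : Fin 3} {x : G} (hx : x ∈ kindSet Φ i) : x * x = 1 := by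
  obtain ⟨g, rfl⟩ := isConj_iff.mp (mem_kindSet.mp hx)
  rw [conj_mul, ← map_mul, (inv3_facts i).1, map_one]; simp

theorem kindSet_conj {i : Fin 3} {x : G} (hx : x ∈ kindSet Φ i) (g : G) : g * x * g⁻¹ ∈ kindSet Φ i :=
  mem_kindSet.mpr ((mem_kindSet.mp hx).trans (isConj_iff.mpr ⟨g, rfl⟩))

/-- Distinct kinds are not fused. -/
def Apart (Φ : Local108 →* G) : Prop := ∀ i j, IsConj (Φ (inv3 i)) (Φ (inv3 j)) → i = j

theorem axisW_injective : Function.Injective axisW := by decide

theorem Loc.mem_kind (h : Loc Φ) (hA : Apart Φ) (i : Fin 3) (a : Local108) :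
    Φ a ∈ kindSet Φ i ↔ a * a = 1 ∧ a ≠ 1 ∧ a.right.toAdd = axisW i := by
  constructor
  · intro hm
    have ha : a * a = 1 := h.inj (by rw [map_mul, map_one, kindSet_sq hm])
    have ha1 : a ≠ 1 := by
      rintro rfl
      rw [mem_kindSet, map_one, isConj_one_left] at hm
      exact (inv3_facts i).2.1 (h.inj (hm.trans (map_one Φ).symm))
    obtain ⟨j, c, hj, hc⟩ := involution_conj a ha ha1
    refine ⟨ha, ha1, ?_⟩
    have : i = j := hA i j ((mem_kindSet.mp hm).trans (isConj_iff.mpr ⟨Φ c, by rw [← hc]; simp⟩).symm)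
    rw [this, hj]
  · rintro ⟨ha, ha1, hi⟩
    obtain ⟨j, c, hj, hc⟩ := involution_conj a ha ha1
    rw [axisW_injective (hj.symm.trans hi)] at hc
    exact mem_kindSet.mpr (isConj_iff.mpr ⟨Φ c, by rw [← hc]; simp⟩)

theorem Loc.pairs_card (h : Loc Φ) (hA : Apart Φ) (i j : Fin 3) {t : V} (ht : t ≠ 0) [DecidableEq G] :
    ((kindSet Φ i ×ˢ kindSet Φ j).filter fun z => z.1 * z.2 = Φ (pt t)).card = pairs108 i j t := by
  refine (Finset.card_bij (fun a _ => (Φ a, Φ (a * pt t))) ?_ ?_ ?_).symm
  · intro a ha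
    obtain ⟨-, h1, h2, h3, h4, h5, h6⟩ := Finset.mem_filter.mp ha
    refine Finset.mem_filter.mpr ⟨Finset.mem_product.mpr
      ⟨(h.mem_kind hA i a).mpr ⟨h1, h2, h3⟩, (h.mem_kind hA j _).mpr ⟨h4, h5, h6⟩⟩, ?_⟩
    rw [← map_mul, ← mul_assoc, h1, one_mul]
  · exact fun a _ b _ e => h.inj (congrArg Prod.fst e)
  · rintro ⟨x, x'⟩ hz
    obtain ⟨hm, he⟩ := Finset.mem_filter.mp hz
    obtain ⟨hx, hx'⟩ := Finset.mem_product.mp hm
    simp only at he hx hx'
    have e1 := kindSet_sq hx
    have e2 := kindSet_sq hx'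
    have hx'e : x' = x * Φ (pt t) := by rw [← he, ← mul_assoc, e1, one_mul]
    have hinv : x * Φ (pt t) * x⁻¹ = (Φ (pt t))⁻¹ := by
      rw [← he, mul_inv_rev, inv_eq_of_mul_eq_one_left e1, inv_eq_of_mul_eq_one_left e2, ← mul_assoc, e1, one_mul]
    obtain ⟨a, rfl⟩ := h.fus t (-t) ht x (by
      rw [hinv, ← map_inv]
      refine congrArg Φ (inv_eq_of_mul_eq_one_right ?_)
      rw [← pt_add, add_neg_cancel]; rfl)
    rw [← map_mul] at hx'e
    obtain ⟨h1, h2, h3⟩ := (h.mem_kind hA i a).mp hx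
    obtain ⟨h4, h5, h6⟩ := (h.mem_kind hA j _).mp (hx'e ▸ hx')
    exact ⟨a, Finset.mem_filter.mpr ⟨Finset.mem_univ _, h1, h2, h3, h4, h5, h6⟩, by rw [hx'e]⟩

theorem neg_mem_plane : ∀ i t, (-t ∈ plane i) ↔ t ∈ plane i := by decide +kernel

/-- The structure equation on the plane. -/
theorem Loc.pairs (h : Loc Φ) (hA : Apart Φ) (i j : Fin 3) (l m : V) :
    ∑ χ : IrrCharacter G, ((mult Φ χ l : ℂ) - mult Φ χ m) *
        (total (kindSet Φ i) χ - (kindSet Φ i).card * (χ : G → ℂ) 1) *
        (total (kindSet Φ j) χ - (kindSet Φ j).card * (χ : G → ℂ) 1) / (χ : G → ℂ) 1 =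
      if i = j then 3 * (Nat.card G : ℂ) * ((if ∀ t ∈ plane i, dotV l t = 0 then 1 else 0) -
        (if ∀ t ∈ plane i, dotV m t = 0 then 1 else 0)) else 0 := by
  classical
  set S := kindSet Φ i
  set T := kindSet Φ j
  have hS : ∀ x ∈ S, ∀ g, g * x * g⁻¹ ∈ S := fun x hx g => kindSet_conj hx g
  have hT : ∀ x ∈ T, ∀ g, g * x * g⁻¹ ∈ T := fun x hx g => kindSet_conj hx g
  have main : ∀ t : V, t ≠ 0 → ∑ χ : IrrCharacter G, total S χ * total T χ * (χ : G → ℂ) (Φ (pt t)) / (χ : G → ℂ) 1 =
      if i = j ∧ t ∈ plane i then 9 * (Nat.card G : ℂ) else 0 := by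
    intro t ht
    calc _ = ∑ χ : IrrCharacter G, ∑ a ∈ S, ∑ b ∈ T, (χ : G → ℂ) 1 * (χ : G → ℂ) (a * b * Φ (pt t)) := by
          refine Finset.sum_congr rfl fun χ _ => ?_
          have h1 := irr_one_ne_zero χ.2
          simp only [mul_assoc _ _ (Φ (pt t)), ← Finset.mul_sum]
          rw [Finset.sum_comm (s := S)]
          simp only [sum_shift hS χ, ← Finset.sum_div, ← Finset.mul_sum, sum_shift hT χ]
          field_simp
      _ = ∑ a ∈ S, ∑ b ∈ T, if a * b * Φ (pt t) = 1 then (Nat.card G : ℂ) else 0 := by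
          rw [Finset.sum_comm]
          refine Finset.sum_congr rfl fun a _ => ?_
          rw [Finset.sum_comm]
          exact Finset.sum_congr rfl fun b _ => sum_degree_mul_apply _
      _ = _ := by
          rw [← Finset.sum_product', Finset.sum_ite, Finset.sum_const_zero, add_zero, Finset.sum_const, nsmul_eq_mul]
          have hfil : ((S ×ˢ T).filter fun z => z.1 * z.2 * Φ (pt t) = 1) =
              (S ×ˢ T).filter fun z => z.1 * z.2 = Φ (pt (-t)) := by
            refine Finset.filter_congr fun z _ => ?_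
            rw [mul_eq_one_iff_eq_inv, ← map_inv,
              show (pt t)⁻¹ = pt (-t) from inv_eq_of_mul_eq_one_right (by rw [← pt_add, add_neg_cancel]; rfl)]
          rw [hfil, h.pairs_card hA i j (neg_ne_zero.mpr ht), pairs108_eq i j _ (neg_ne_zero.mpr ht),
            if_congr (and_congr_right fun _ => neg_mem_plane i t) rfl rfl]
          split_ifs <;> simp
  have zero : ∀ U : Finset G, (∀ x ∈ U, x * x = 1) →
      ∑ χ : IrrCharacter G, ((mult Φ χ l : ℂ) - mult Φ χ m) * total U χ = 0 := by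
    intro U hU
    simp only [total, Finset.mul_sum]
    rw [Finset.sum_comm]
    exact Finset.sum_eq_zero fun x hx => h.sum_mult_mul (hU x hx) l m
  have expand : ∑ χ : IrrCharacter G, ((mult Φ χ l : ℂ) - mult Φ χ m) * total S χ * total T χ / (χ : G → ℂ) 1 =
      if i = j then 3 * (Nat.card G : ℂ) * ((if ∀ t ∈ plane i, dotV l t = 0 then 1 else 0) -
        (if ∀ t ∈ plane i, dotV m t = 0 then 1 else 0)) else 0 := by
    refine mul_left_cancel₀ (show (27 : ℂ) ≠ 0 by norm_num) ?_
    calc 27 * ∑ χ : IrrCharacter G, ((mult Φ χ l : ℂ) - mult Φ χ m) * total S χ * total T χ / (χ : G → ℂ) 1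
        = ∑ t : V, ((phase (dotV l t) : ℂ) - phase (dotV m t)) *
            ∑ χ : IrrCharacter G, total S χ * total T χ * (χ : G → ℂ) (Φ (pt t)) / (χ : G → ℂ) 1 := by
          simp only [Finset.mul_sum]
          rw [Finset.sum_comm]
          refine Finset.sum_congr rfl fun χ _ => ?_
          rw [show (27 : ℂ) * (((mult Φ χ l : ℂ) - mult Φ χ m) * total S χ * total T χ / (χ : G → ℂ) 1) =
            (27 * (mult Φ χ l : ℂ) - 27 * mult Φ χ m) * (total S χ * total T χ / (χ : G → ℂ) 1) by ring,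
            ← mult_spec, ← mult_spec, ← Finset.sum_sub_distrib, Finset.sum_mul]
          exact Finset.sum_congr rfl fun t _ => by ring
      _ = ∑ t : V, if t ∈ plane i then ((phase (dotV l t) : ℂ) - phase (dotV m t)) *
            (if i = j then 9 * (Nat.card G : ℂ) else 0) else 0 := by
          refine Finset.sum_congr rfl fun t _ => ?_
          by_cases ht : t = 0
          · subst ht; simp [dotV]
          · rw [main t ht]
            by_cases hp : t ∈ plane i <;> simp [hp]
      _ = _ := by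
          rw [Finset.sum_ite_mem, Finset.univ_inter, ← Finset.sum_mul, Finset.sum_sub_distrib, sum_phase_plane,
            sum_phase_plane]
          split_ifs <;> ring
  rw [← expand]
  have : (∑ χ : IrrCharacter G,
      (-(T.card : ℂ) * (((mult Φ χ l : ℂ) - mult Φ χ m) * total S χ) -
        (S.card : ℂ) * (((mult Φ χ l : ℂ) - mult Φ χ m) * total T χ) +
        (S.card : ℂ) * T.card * (((mult Φ χ l : ℂ) - mult Φ χ m) * (χ : G → ℂ) 1))) = 0 := by
    rw [Finset.sum_add_distrib, Finset.sum_sub_distrib, ← Finset.mul_sum, ← Finset.mul_sum, ← Finset.mul_sum,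
      zero S fun x hx => kindSet_sq hx, zero T fun x hx => kindSet_sq hx, h.sum_mult_mul (one_mul 1) l m]
    ring
  rw [← sub_eq_zero, ← Finset.sum_sub_distrib, ← this]
  refine Finset.sum_congr rfl fun χ _ => ?_
  have h1 := irr_one_ne_zero χ.2
  field_simp
  ring

end CfsgLib.SmallGroups.ThreeCube
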