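import Cfsg.Agent.Lib.SmallGroups.ThreeCube.Vectors
import Mathlib

/-!
Sums over small supports and signed congruences.
-/

set_option autoImplicit false

namespace CfsgLib.SmallGroups.ThreeCube

variable {ι : Type*} [Fintype ι]

/-- A weighted sum over a support consisting of a distinguished point and a few more. -/
theorem expand_support {κ : Type*} [Fintype κ] {R : Type*} [CommRing R] {f : ι → ℤ} {ξ : ι} {a : κ → ι}
    (ha : Function.Injective a) (hne : ∀ k, a k ≠ ξ) (hz : ∀ χ, χ ≠ ξ → (∀ k, a k ≠ χ) → f χ = 0) (F : ι → R) :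
    ∑ χ, (f χ : R) * F χ = (f ξ : R) * F ξ + ∑ k, (f (a k) : R) * F (a k) := by
  have hinj : Function.Injective (fun o : Option κ => o.elim ξ a) := by
    rintro (_ | k) (_ | l) e
    · rfl
    · exact absurd e.symm (hne l)
    · exact absurd e (hne k)
    · exact congrArg some (ha e)
  rw [sum_over (fun o : Option κ => o.elim ξ a) hinj (fun χ => (f χ : R) * F χ) (fun χ hχ => ?_),
    Fintype.sum_option]
  · rfl
  · have : f χ = 0 := hz χ (fun e => hχ none e.symm) fun k e => hχ (some k) e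
    simp [this]

/-- A vector of norm `n` non-zero at `n` points. -/
theorem full_support {κ : Type*} [Fintype κ] {f : ι → ℤ} {n : ℕ} (h : ∑ χ, f χ * f χ = n) {p : κ → ι}
    (hp : Function.Injective p) (hne : ∀ k, f (p k) ≠ 0) (hn : Fintype.card κ = n) :
    (∀ k, f (p k) * f (p k) = 1) ∧ ∀ χ, (∀ k, p k ≠ χ) → f χ = 0 := by
  classical
  have h1 : ∀ k, 1 ≤ f (p k) * f (p k) := fun k => by
    have := mul_self_pos.mpr (hne k)
    omega
  have hs : ∑ χ ∈ Finset.univ.image p, f χ * f χ = ∑ k, f (p k) * f (p k) :=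
    Finset.sum_image fun a _ b _ e => hp e
  have h2 := Finset.sum_sdiff (f := fun χ => f χ * f χ) (Finset.subset_univ (Finset.univ.image p))
  rw [hs, h] at h2
  have h3 : (n : ℤ) ≤ ∑ k, f (p k) * f (p k) := by
    calc (n : ℤ) = ∑ _k : κ, (1 : ℤ) := by simp [hn]
      _ ≤ _ := Finset.sum_le_sum fun k _ => h1 k
  have h4 : 0 ≤ ∑ χ ∈ Finset.univ \ Finset.univ.image p, f χ * f χ :=
    Finset.sum_nonneg fun _ _ => mul_self_nonneg _
  refine ⟨fun k => ?_, fun χ hχ => ?_⟩
  · have e : ∑ _k : κ, (1 : ℤ) = ∑ k, f (p k) * f (p k) := by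
      simp only [Finset.sum_const, Finset.card_univ, hn, nsmul_eq_mul, mul_one]
      linarith
    exact ((Finset.sum_eq_sum_iff_of_le fun k _ => h1 k).mp e k (Finset.mem_univ _)).symm
  · exact mul_self_eq_zero.mp ((Finset.sum_eq_zero_iff_of_nonneg fun _ _ => mul_self_nonneg _).mp
      (show ∑ χ ∈ Finset.univ \ Finset.univ.image p, f χ * f χ = 0 by linarith) χ (by simp [hχ]))

omit [Fintype ι] in
theorem pair_injective {x y : ι} (h : x ≠ y) : Function.Injective ![x, y] := by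
  intro a b e
  fin_cases a <;> fin_cases b <;>
    first
      | rfl
      | exact absurd e h
      | exact absurd e.symm h

omit [Fintype ι] in
theorem five_injective {a : Fin 3 → ι} (ha : Function.Injective a) {x y : ι} (h : x ≠ y)
    (hxy : ∀ k, a k ≠ x ∧ a k ≠ y) : Function.Injective (Sum.elim a ![x, y]) := by
  refine ha.sumElim (pair_injective h) fun k b => ?_
  fin_cases b
  exacts [(hxy k).1, (hxy k).2]

omit [Fintype ι] in
theorem five_ne_zero {a : Fin 3 → ι} {x y : ι} {f : ι → ℤ} (ha : ∀ k, f (a k) ≠ 0) (hx : f x ≠ 0) (hy : f y ≠ 0) :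
    ∀ b, f (Sum.elim a ![x, y] b) ≠ 0 := by
  rintro (k | b)
  · exact ha k
  · fin_cases b
    exacts [hx, hy]

theorem signed_ne_zero {σ : ℤ} (hσ : σ * σ = 1) {d : ℤ} (hd : d ≠ 0) : σ * d ≠ 0 :=
  mul_ne_zero (by rintro rfl; norm_num at hσ) hd

/-- The transverse value at a point is congruent to minus the signed coefficient. -/
theorem y_congr {σ s x d xi dξ δ D : ℤ} (hD : D = s * dξ) (hD3 : (3 : ℤ) ∣ D - 1) (hx : (3 : ℤ) ∣ x + δ)
    (hxi : (3 : ℤ) ∣ xi) : (3 : ℤ) ∣ (σ * (x - d)) * D - (s * (xi - dξ)) * (σ * d) + σ * δ := by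
  obtain ⟨a, ha⟩ := hD3
  obtain ⟨b, hb⟩ := hx
  obtain ⟨c, hc⟩ := hxi
  refine ⟨σ * x * a + σ * b - s * σ * c * d, ?_⟩
  subst hc
  linear_combination (σ * x) * ha + σ * hb - σ * d * hD

theorem fin3_sum (F : Fin 3 → ℤ) {p q o : Fin 3} (hpq : p ≠ q) (hop : o ≠ p)
    (hoq : o ≠ q) : ∑ k, F k = F p + F q + F o := by
  rw [Fin.sum_univ_three]
  fin_cases p <;> fin_cases q <;> fin_cases o <;> simp at hpq hop hoq ⊢ <;> omega

theorem exists_third : ∀ p q : Fin 3, ∃ o, o ≠ p ∧ o ≠ q := by decide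

theorem rowTab_bounds : ∀ c k, -1 ≤ rowTab c k ∧ rowTab c k ≤ 1 := by decide

theorem rowTab_nonzero : ∀ c, (∀ k, rowTab c k = 0) ∨ ∃ p q, p ≠ q ∧ rowTab c p = 1 ∧ rowTab c q = -1 := by
  decide

/-- Three signs with sum `1` have one minus. -/
theorem one_minus : ∀ e : Fin 3 → Fin 2, (∑ k, (2 * ((e k : ℕ) : ℤ) - 1)) = 1 →
    ∃ m, ∀ k, 2 * ((e k : ℕ) : ℤ) - 1 = if k = m then -1 else 1 := by decide

theorem minus_apart : ∀ m m' : Fin 3, (∑ k, (if k = m then (-1 : ℤ) else 1) * (if k = m' then -1 else 1)) = -1 →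
    m ≠ m' := by decide

end CfsgLib.SmallGroups.ThreeCube
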