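import Cfsg.Agent.Lib.SmallGroups.ThreeCube.Rows
import Cfsg.Agent.Lib.SmallGroups.ThreeCube.Support
import Cfsg.Agent.Lib.SmallGroups.ThreeCube.Algebra
import Mathlib

/-!
A group with local subgroup `3³ ⋊ 2²` has linear characters moving every involution kind.
-/

set_option autoImplicit false
set_option maxHeartbeats 1600000

namespace CfsgLib.SmallGroups.ThreeCube

open Cfsg CfsgLib.Char CfsgLib.InvolChar

variable {G : Type*} [Group G] {Φ : Local108 →* G} [Fintype G] [Fintype (NonTriv G)]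

/-- The equations on the support of one short row. -/
theorem Loc.gam_block (h : Loc Φ) {G₀ : ℕ} (hG : Nat.card G = 27 * G₀) {t : Fin 3 → ℕ}
    (ht : ∀ i, (kindSet Φ i).card = 9 * t i) {s : ℤ} (hs : s * s = 1) {ξ P Q : NonTriv G} (l : Fin 3)
    (hξ : gam Φ l ξ.1 = -s) (hP : P ≠ ξ) (hQ : Q ≠ ξ) (hPQ : P ≠ Q)
    (hPu : gam Φ l P.1 * gam Φ l P.1 = 1) (hQu : gam Φ l Q.1 * gam Φ l Q.1 = 1)
    (hz : ∀ χ, χ ≠ ξ → χ ≠ P → χ ≠ Q → gam Φ l χ.1 = 0) :
    gam Φ l P.1 * deg P.1 + gam Φ l Q.1 * deg Q.1 = s * deg ξ.1 ∧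
      (∀ i, gam Φ l P.1 * ushift Φ i P.1 + gam Φ l Q.1 * ushift Φ i Q.1 = s * ushift Φ i ξ.1) ∧
      ∀ i, ((t i : ℤ) * t i) *
          ((gam Φ l P.1 * ushift Φ i P.1 * (s * deg ξ.1) - s * ushift Φ i ξ.1 * (gam Φ l P.1 * deg P.1)) *
           (gam Φ l P.1 * ushift Φ i P.1 * (s * deg ξ.1) - s * ushift Φ i ξ.1 * (gam Φ l P.1 * deg P.1))) =
        (if i = l then (G₀ : ℤ) else 0) * (gam Φ l P.1 * deg P.1) * (gam Φ l Q.1 * deg Q.1) * (s * deg ξ.1) := by
  have hinj : Function.Injective ![P, Q] := pair_injective hPQ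
  have hne : ∀ k, ![P, Q] k ≠ ξ := by intro k; fin_cases k <;> assumption
  have hz' : ∀ χ : NonTriv G, χ ≠ ξ → (∀ k, ![P, Q] k ≠ χ) → gam Φ l χ.1 = 0 := fun χ h1 h2 =>
    hz χ h1 (fun e => h2 0 e.symm) fun e => h2 1 e.symm
  have hd : gam Φ l P.1 * deg P.1 + gam Φ l Q.1 * deg Q.1 = s * deg ξ.1 := by
    have e := h.gam_deg l
    have x := expand_support (R := ℤ) (f := fun χ : NonTriv G => gam Φ l χ.1) hinj hne hz'
      (fun χ => (deg χ.1 : ℤ))
    simp only [Int.cast_id, Fin.sum_univ_two, Matrix.cons_val_zero, Matrix.cons_val_one, hξ] at x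
    linarith
  have hu : ∀ i, gam Φ l P.1 * ushift Φ i P.1 + gam Φ l Q.1 * ushift Φ i Q.1 = s * ushift Φ i ξ.1 := fun i => by
    have e := h.gam_ushift l i
    have x := expand_support (R := ℤ) (f := fun χ : NonTriv G => gam Φ l χ.1) hinj hne hz'
      (fun χ => ushift Φ i χ.1)
    simp only [Int.cast_id, Fin.sum_univ_two, Matrix.cons_val_zero, Matrix.cons_val_one, hξ] at x
    linarith
  refine ⟨hd, hu, fun i => ?_⟩
  have e := h.structure_eq hG t ht i i (axisV l) lM
  rw [show (∑ χ : NonTriv G, ((mult Φ χ.1 (axisV l) - mult Φ χ.1 lM : ℤ) : ℚ) * ushift Φ i χ.1 *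
      ushift Φ i χ.1 / (deg χ.1 : ℚ)) = _ from (Finset.sum_congr rfl fun χ _ => show _ = ((gam Φ l χ.1 : ℤ) : ℚ) *
        ((ushift Φ i χ.1 : ℚ) * ushift Φ i χ.1 / (deg χ.1 : ℚ)) by rw [gam]; ring).trans
      (expand_support (f := fun χ : NonTriv G => gam Φ l χ.1) hinj hne hz' _)] at e
  simp only [Fin.sum_univ_two, Matrix.cons_val_zero, Matrix.cons_val_one] at e
  rw [if_true, if_congr ((perp_facts i).2.2 l) rfl rfl, if_neg (perp_facts i).2.1, sub_zero, mul_ite, mul_one,
    mul_zero] at e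
  have dξ : ((deg ξ.1 : ℕ) : ℚ) ≠ 0 := by exact_mod_cast (deg_pos ξ.1).ne'
  have dP : ((deg P.1 : ℕ) : ℚ) ≠ 0 := by exact_mod_cast (deg_pos P.1).ne'
  have dQ : ((deg Q.1 : ℕ) : ℚ) ≠ 0 := by exact_mod_cast (deg_pos Q.1).ne'
  have uξ : (s : ℚ) ≠ 0 := fun hh => by rw [show s = 0 by exact_mod_cast hh] at hs; norm_num at hs
  have uP : (gam Φ l P.1 : ℚ) ≠ 0 := fun hh => by
    rw [show gam Φ l P.1 = 0 by exact_mod_cast hh] at hPu; norm_num at hPu
  have uQ : (gam Φ l Q.1 : ℚ) ≠ 0 := fun hh => by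
    rw [show gam Φ l Q.1 = 0 by exact_mod_cast hh] at hQu; norm_num at hQu
  have tξ := signed_term hs (ushift Φ i ξ.1) (ushift Φ i ξ.1) (deg ξ.1)
  have tP := signed_term hPu (ushift Φ i P.1) (ushift Φ i P.1) (deg P.1)
  have tQ := signed_term hQu (ushift Φ i Q.1) (ushift Φ i Q.1) (deg Q.1)
  have key := two_term (T := (t i : ℚ) * t i) (D := (s : ℚ) * deg ξ.1) (A := (gam Φ l P.1 : ℚ) * deg P.1)
    (B := (gam Φ l Q.1 : ℚ) * deg Q.1) (S := (s : ℚ) * ushift Φ i ξ.1) (S' := (s : ℚ) * ushift Φ i ξ.1)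
    (U := (gam Φ l P.1 : ℚ) * ushift Φ i P.1) (U' := (gam Φ l P.1 : ℚ) * ushift Φ i P.1)
    (W := (gam Φ l Q.1 : ℚ) * ushift Φ i Q.1) (W' := (gam Φ l Q.1 : ℚ) * ushift Φ i Q.1)
    (c := if i = l then (G₀ : ℚ) else 0) (mul_ne_zero uξ dξ) (mul_ne_zero uP dP) (mul_ne_zero uQ dQ)
    (by exact_mod_cast hd) (by exact_mod_cast hu i) (by exact_mod_cast hu i) (by
      rw [← e, ← tξ, ← tP, ← tQ, hξ]
      push_cast; ring)
  refine Int.cast_injective (α := ℚ) ?_
  push_cast
  exact key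

/-- Every kind of involution is moved by a linear character. -/
theorem Loc.exists_linear (h : Loc Φ) : ∀ i, ∃ f : G →* ℂˣ, f (Φ (inv3 i)) ≠ 1 := by
  classical
  obtain ⟨G₀, hG, hG3⟩ := h.sylow
  choose t ht ht3 using fun i => h.kind_card i hG hG3
  have hg3 : ¬ (3 : ℤ) ∣ (G₀ : ℤ) := by exact_mod_cast hG3
  have ht3' : ∀ i, ¬ (3 : ℤ) ∣ (t i : ℤ) := fun i => by exact_mod_cast ht3 i
  -- the coherent point
  obtain ⟨ξ, s, r, hs, hrinj, hr⟩ := coherent (fun m (χ : NonTriv G) => del Φ m χ.1)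
    (fun m => (h.del_del m m).trans (if_pos rfl)) fun m m' hm => (h.del_del m m').trans (if_neg hm)
  have hdel0 : ∀ χ : NonTriv G, χ ≠ ξ → (∀ m, r m ≠ χ) → ∀ m, del Φ m χ.1 = 0 := fun χ h1 h2 m =>
    (hr m).2.2.2 χ h1 (Ne.symm (h2 m))
  have hγ : ∀ l, gam Φ l ξ.1 = -s ∧ ∀ m, gam Φ l (r m).1 = 0 := fun l => by
    rcases attach hrinj hr hs (R := fun χ : NonTriv G => gam Φ l χ.1) (fun m => h.gam_del l m)
      (by rw [h.gam_gam, if_pos rfl]; norm_num) with hh | ⟨-, -, e, -⟩
    · exact hh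
    · rw [h.gam_gam, if_pos rfl] at e; norm_num at e
  have hβ : beta Φ ξ.1 = -s ∧ ∀ m, beta Φ (r m).1 = 0 := by
    rcases attach hrinj hr hs (R := fun χ : NonTriv G => beta Φ χ.1) (fun m => h.beta_del m)
      (by rw [h.beta_beta]) with hh | ⟨-, -, -, hz⟩
    · exact hh
    · exfalso
      have e := h.beta_gam 0
      rw [Finset.sum_eq_zero fun χ _ => ?_] at e
      · norm_num at e
      · by_cases hc : ∃ m, r m = χ
        · obtain ⟨m, rfl⟩ := hc; rw [(hγ 0).2 m, mul_zero]
        · push Not at hc; rw [show beta Φ χ.1 = 0 from hz χ hc, zero_mul]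
  obtain ⟨a, hainj, ha, haz⟩ := four_support (f := fun χ : NonTriv G => beta Φ χ.1) h.beta_beta (ξ := ξ)
    (by rw [hβ.1]; linear_combination hs)
  have har : ∀ k m, r m ≠ a k := fun k m e => by
    have := (ha k).2
    rw [← e] at this
    simp only [hβ.2 m] at this
    norm_num at this
  have hs0 : s ≠ 0 := fun e => by rw [e] at hs; norm_num at hs
  choose p q hpq hpξ hqξ hpu hqu hpqz using fun l => three_support (f := fun χ : NonTriv G => gam Φ l χ.1)
    ((h.gam_gam l l).trans (if_pos rfl)) (ξ := ξ) (by rw [(hγ l).1]; omega)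
  set D := s * (deg ξ.1 : ℤ) with hDdef
  set A : Fin 3 → ℤ := fun k => beta Φ (a k).1 * deg (a k).1 with hAdef
  set U : Fin 3 → Fin 3 → ℤ := fun i k => beta Φ (a k).1 * ushift Φ i (a k).1 with hUdef
  set S : Fin 3 → ℤ := fun i => s * ushift Φ i ξ.1 with hSdef
  have sumβ : ∀ F : NonTriv G → ℤ, ∑ χ : NonTriv G, beta Φ χ.1 * F χ = -s * F ξ + ∑ k, beta Φ (a k).1 * F (a k) :=
    fun F => by
      have x := expand_support (R := ℤ) (f := fun χ : NonTriv G => beta Φ χ.1) hainj (fun k => (ha k).1) haz F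
      simp only [Int.cast_id, hβ.1] at x
      exact x
  have hDA : D = 1 + ∑ k, A k := by
    have e := h.beta_deg
    rw [sumβ (fun χ => (deg χ.1 : ℤ))] at e
    simp only [hAdef, hDdef]
    linarith
  have hUS : ∀ i, ∑ k, U i k = S i := fun i => by
    have e := h.beta_ushift i
    rw [sumβ (fun χ => ushift Φ i χ.1)] at e
    simp only [hUdef, hSdef]
    linarith
  have hD27 : D % 27 = 4 := by
    have e := deg_split (Φ := Φ) ξ.1
    simp only [hβ.1, (hγ _).1, fun m => (hr m).2.1, Finset.sum_const, Finset.card_univ, Fintype.card_fin,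
      nsmul_eq_mul, Nat.cast_ofNat] at e
    have : D = 27 * (s * mult Φ ξ.1 lM) - 23 := by rw [hDdef, e]; linear_combination -23 * hs
    omega
  have hDne : D ≠ 0 := by omega
  -- degrees on the long row
  set E : Fin 3 → ℤ := fun k => ∑ l, beta Φ (a k).1 * gam Φ l (a k).1 with hEdef
  have hA27 : ∀ k, ∃ m, A k = 27 * m + 1 + 2 * E k := fun k => by
    have e := deg_split (Φ := Φ) (a k).1
    simp only [hdel0 _ (ha k).1 (har k), Finset.sum_const_zero, mul_zero, sub_zero] at e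
    refine ⟨beta Φ (a k).1 * mult Φ (a k).1 lM, ?_⟩
    simp only [hAdef, hEdef, ← Finset.mul_sum]
    rw [e]
    linear_combination (ha k).2
  -- short rows avoid the long one
  have hrow : ∀ l, ∃ c, ∀ k, beta Φ (a k).1 * gam Φ l (a k).1 = rowTab c k := by
    intro l
    have hsmall : ∀ k, beta Φ (a k).1 * gam Φ l (a k).1 = 0 ∨ beta Φ (a k).1 * gam Φ l (a k).1 = 1 ∨
        beta Φ (a k).1 * gam Φ l (a k).1 = -1 := fun k => by
      refine unit_of_small ?_
      have h1 := sq_le_of_sum (f := fun χ : NonTriv G => gam Φ l χ.1) ((h.gam_gam l l).trans (if_pos rfl)) (a k)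
      calc beta Φ (a k).1 * gam Φ l (a k).1 * (beta Φ (a k).1 * gam Φ l (a k).1)
          = beta Φ (a k).1 * beta Φ (a k).1 * (gam Φ l (a k).1 * gam Φ l (a k).1) := by ring
        _ ≤ 3 := by rw [show beta Φ (a k).1 * beta Φ (a k).1 = 1 from (ha k).2, one_mul]; exact h1
    have hsum : ∑ k, beta Φ (a k).1 * gam Φ l (a k).1 = 0 := by
      have e := h.beta_gam l
      rw [sumβ (fun χ => gam Φ l χ.1), (hγ l).1] at e
      linarith
    let v : Fin 3 → Fin 3 := fun k => ⟨(beta Φ (a k).1 * gam Φ l (a k).1 + 1).toNat, by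
      rcases hsmall k with e | e | e <;> rw [e] <;> decide⟩
    have hv : ∀ k, ((v k : ℕ) : ℤ) - 1 = beta Φ (a k).1 * gam Φ l (a k).1 := fun k => by
      show ((beta Φ (a k).1 * gam Φ l (a k).1 + 1).toNat : ℤ) - 1 = _
      rcases hsmall k with e | e | e <;> rw [e] <;> norm_num
    obtain ⟨c, hc⟩ := row_cases v (by simp only [hv]; exact hsum)
    exact ⟨c, fun k => by rw [← hv, hc]⟩
  choose c hc using hrow
  have hEc : ∀ k, E k = ∑ l, rowTab (c l) k := fun k => by simp only [hEdef, hc]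
  have hEb : ∀ k, -3 ≤ E k ∧ E k ≤ 3 := fun k => by
    rw [hEc, Fin.sum_univ_three]
    have := rowTab_bounds (c 0) k; have := rowTab_bounds (c 1) k; have := rowTab_bounds (c 2) k
    omega
  have hoverlap : ∀ l k k', k ≠ k' → rowTab (c l) k = 1 → rowTab (c l) k' = -1 →
      gam Φ l (a k).1 = beta Φ (a k).1 ∧ gam Φ l (a k').1 = -beta Φ (a k').1 ∧
      ∀ χ : NonTriv G, χ ≠ ξ → χ ≠ a k → χ ≠ a k' → gam Φ l χ.1 = 0 := by
    intro l k k' hkk' h1 h2
    have e1 : gam Φ l (a k).1 = beta Φ (a k).1 := by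
      have := hc l k; rw [h1] at this
      linear_combination beta Φ (a k).1 * this - gam Φ l (a k).1 * (ha k).2
    have e2 : gam Φ l (a k').1 = -beta Φ (a k').1 := by
      have := hc l k'; rw [h2] at this
      linear_combination beta Φ (a k').1 * this - gam Φ l (a k').1 * (ha k').2
    refine ⟨e1, e2, fun χ h3 h4 h5 => ?_⟩
    have hk : a k = p l ∨ a k = q l := by
      by_contra hn
      push Not at hn
      have h0 := (ha k).2
      simp only [← e1, hpqz l _ (ha k).1 hn.1 hn.2] at h0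
      norm_num at h0
    have hk' : a k' = p l ∨ a k' = q l := by
      by_contra hn
      push Not at hn
      have h0 := (ha k').2
      simp only [show beta Φ (a k').1 = -gam Φ l (a k').1 by rw [e2, neg_neg],
        hpqz l _ (ha k').1 hn.1 hn.2] at h0
      norm_num at h0
    rcases hk with hk | hk <;> rcases hk' with hk' | hk'
    · exact absurd (hainj (hk.trans hk'.symm)) hkk'
    · exact hpqz l χ h3 (hk ▸ h4) (hk' ▸ h5)
    · exact hpqz l χ h3 (hk' ▸ h5) (hk ▸ h4)
    · exact absurd (hainj (hk.trans hk'.symm)) hkk'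
  have hblockA : ∀ l k k', k ≠ k' → rowTab (c l) k = 1 → rowTab (c l) k' = -1 → A k - A k' = D ∧
      ∃ y : ℤ, (t l : ℤ) * t l * (y * y) = (G₀ : ℤ) * A k * -A k' * D := by
    intro l k k' hkk' h1 h2
    obtain ⟨e1, e2, ez⟩ := hoverlap l k k' hkk' h1 h2
    obtain ⟨bd, -, by'⟩ := h.gam_block hG ht hs l (hγ l).1 (ha k).1 (ha k').1 (fun e => hkk' (hainj e))
      (by rw [e1]; exact (ha k).2) (by rw [e2]; linear_combination (ha k').2) ez
    rw [e1, e2] at bd
    refine ⟨by simp only [hAdef, hDdef]; linarith, _, (by'  l).trans ?_⟩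
    rw [if_pos rfl, e1, e2]
    simp only [hAdef, hDdef]
    ring
  have hover : ∀ l k k' o, k ≠ k' → o ≠ k → o ≠ k' → rowTab (c l) k = 1 → rowTab (c l) k' = -1 →
      2 + 2 * (∑ l', rowTab (c l') k') + ∑ l', rowTab (c l') o = 0 := by
    intro l k k' o hkk' hok hok' h1 h2
    rw [← hEc, ← hEc]
    obtain ⟨bd, -⟩ := hblockA l k k' hkk' h1 h2
    rw [fin3_sum A hkk' hok hok'] at hDA
    obtain ⟨m1, hm1⟩ := hA27 k'
    obtain ⟨m2, hm2⟩ := hA27 o
    have := hEb k'; have := hEb o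
    omega
  have hc0 : ∀ l k, gam Φ l (a k).1 = 0 := by
    intro l k
    rcases rowTab_nonzero (c l) with h0 | ⟨k₁, k₂, hne, h1, h2⟩
    · have := hc l k
      rw [h0 k] at this
      exact (mul_eq_zero.mp this).resolve_left fun e => by
        have h3 := (ha k).2; simp only [e] at h3; norm_num at h3
    · exfalso
      obtain ⟨eP, eQ⟩ := overlap_cases c hover l k₁ k₂ h1 h2
      rw [← hEc] at eP eQ
      obtain ⟨m1, hm1⟩ := hA27 k₁
      obtain ⟨m2, hm2⟩ := hA27 k₂
      obtain ⟨-, y, hy⟩ := hblockA l k₁ k₂ hne h1 h2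
      exact no_single_three (ht3' l) hg3 (by omega) (by omega) hD27 hy
  have hA1 : ∀ k, A k % 27 = 1 := fun k => by
    obtain ⟨m, hm⟩ := hA27 k
    have : E k = 0 := by simp only [hEdef, hc0, mul_zero, Finset.sum_const_zero]
    omega
  -- the short rows are disjoint
  have hpr : ∀ l m, r m ≠ p l ∧ r m ≠ q l := fun l m =>
    ⟨fun e => by have h0 := hpu l; simp only [← e, (hγ l).2 m] at h0; norm_num at h0,
     fun e => by have h0 := hqu l; simp only [← e, (hγ l).2 m] at h0; norm_num at h0⟩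
  have hpa : ∀ l k, a k ≠ p l ∧ a k ≠ q l := fun l k =>
    ⟨fun e => by have h0 := hpu l; simp only [← e, hc0 l k] at h0; norm_num at h0,
     fun e => by have h0 := hqu l; simp only [← e, hc0 l k] at h0; norm_num at h0⟩
  set P : Fin 3 → ℤ := fun l => gam Φ l (p l).1 * deg (p l).1 with hPdef
  set Q : Fin 3 → ℤ := fun l => gam Φ l (q l).1 * deg (q l).1 with hQdef
  have hblock := fun l => h.gam_block hG ht hs l (hγ l).1 (hpξ l) (hqξ l) (hpq l) (hpu l) (hqu l) (hpqz l)
  have hP0 : ∀ l, P l ≠ 0 := fun l => signed_ne_zero (hpu l) (by exact_mod_cast (deg_pos (p l).1).ne')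
  have hQ0 : ∀ l, Q l ≠ 0 := fun l => signed_ne_zero (hqu l) (by exact_mod_cast (deg_pos (q l).1).ne')
  have hdisj : ∀ l l', l ≠ l' → gam Φ l' (p l).1 = 0 ∧ gam Φ l' (q l).1 = 0 := by
    intro l l' hll
    have hinj : Function.Injective ![p l, q l] := pair_injective (hpq l)
    have hne : ∀ k, ![p l, q l] k ≠ ξ := by
      intro k; fin_cases k
      exacts [hpξ l, hqξ l]
    have hz : ∀ χ : NonTriv G, χ ≠ ξ → (∀ k, ![p l, q l] k ≠ χ) → gam Φ l χ.1 = 0 := fun χ h1 h2 =>
      hpqz l χ h1 (fun e => h2 0 e.symm) fun e => h2 1 e.symm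
    have e := h.gam_gam l l'
    rw [if_neg hll] at e
    have x := expand_support (R := ℤ) (f := fun χ : NonTriv G => gam Φ l χ.1) hinj hne hz
      (fun χ => gam Φ l' χ.1)
    simp only [Int.cast_id, Fin.sum_univ_two, Matrix.cons_val_zero, Matrix.cons_val_one, (hγ l).1, (hγ l').1] at x
    have h0 : gam Φ l (p l).1 * gam Φ l' (p l).1 = -(gam Φ l (q l).1 * gam Φ l' (q l).1) := by
      linear_combination (e - x) * 1 - hs
    have hiff : gam Φ l' (p l).1 = 0 → gam Φ l' (q l).1 = 0 := fun hh => by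
      rw [hh, mul_zero] at h0
      exact (mul_eq_zero.mp (neg_eq_zero.mp h0.symm)).resolve_left fun e0 => by
        have h1 := hqu l; simp only [e0] at h1; norm_num at h1
    suffices hh : gam Φ l' (p l).1 = 0 from ⟨hh, hiff hh⟩
    by_contra hp'
    have hq' : gam Φ l' (q l).1 ≠ 0 := fun hh => by
      rw [hh, mul_zero, neg_zero] at h0
      rcases mul_eq_zero.mp h0 with e0 | e0
      · have h1 := hpu l; simp only [e0] at h1; norm_num at h1
      · exact hp' e0
    have m1 : p l = p l' ∨ p l = q l' := by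
      by_contra hn; push Not at hn; exact hp' (hpqz l' _ (hpξ l) hn.1 hn.2)
    have m2 : q l = p l' ∨ q l = q l' := by
      by_contra hn; push Not at hn; exact hq' (hpqz l' _ (hqξ l) hn.1 hn.2)
    have bd := (hblock l).1
    have bd' := (hblock l').1
    rcases m1 with m1 | m1 <;> rcases m2 with m2 | m2
    · exact hpq l (m1.trans m2.symm)
    · rw [← m1, ← m2] at bd'
      rw [m1] at h0
      rw [← m1] at h0
      have u1 := hpu l; have u2 := hqu l
      have u1' := hpu l'; have u2' := hqu l'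
      rw [← m1] at u1'; rw [← m2] at u2'
      rcases Int.eq_one_or_neg_one_of_mul_eq_one u1 with a1 | a1 <;>
        rcases Int.eq_one_or_neg_one_of_mul_eq_one u2 with a2 | a2 <;>
          rcases Int.eq_one_or_neg_one_of_mul_eq_one u1' with b1 | b1 <;>
            rcases Int.eq_one_or_neg_one_of_mul_eq_one u2' with b2 | b2 <;>
              simp only [a1, a2, b1, b2] at h0 bd bd' <;>
              have := deg_pos (p l).1 <;> have := deg_pos (q l).1 <;> omega
    · rw [← m1, ← m2] at bd'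
      have u1 := hpu l; have u2 := hqu l
      have u1' := hqu l'; have u2' := hpu l'
      rw [← m1] at u1'; rw [← m2] at u2'
      rcases Int.eq_one_or_neg_one_of_mul_eq_one u1 with a1 | a1 <;>
        rcases Int.eq_one_or_neg_one_of_mul_eq_one u2 with a2 | a2 <;>
          rcases Int.eq_one_or_neg_one_of_mul_eq_one u1' with b1 | b1 <;>
            rcases Int.eq_one_or_neg_one_of_mul_eq_one u2' with b2 | b2 <;>
              simp only [a1, a2, b1, b2] at h0 bd bd' <;>
              have := deg_pos (p l).1 <;> have := deg_pos (q l).1 <;> omega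
    · exact hpq l (m1.trans m2.symm)
  have hPQ27 : ∀ l, P l % 27 = 2 ∧ Q l % 27 = 2 := by
    intro l
    have gen : ∀ χ : NonTriv G, χ ≠ ξ → (∀ m, r m ≠ χ) → (∀ k, a k ≠ χ) → (∀ l', l' ≠ l → gam Φ l' χ.1 = 0) →
        gam Φ l χ.1 * gam Φ l χ.1 = 1 → (gam Φ l χ.1 * deg χ.1) % 27 = 2 := by
      intro χ h1 h2 h3 h4 h5
      have e := deg_split (Φ := Φ) χ.1
      rw [haz χ h1 h3, Finset.sum_eq_zero fun m _ => hdel0 χ h1 h2 m,
        Finset.sum_eq_single l (fun l' _ hl' => h4 l' hl') (by simp)] at e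
      have : gam Φ l χ.1 * deg χ.1 = 27 * (gam Φ l χ.1 * mult Φ χ.1 lM) + 2 := by
        rw [e]; linear_combination 2 * h5
      omega
    exact ⟨gen _ (hpξ l) (fun m => (hpr l m).1) (fun k => (hpa l k).1) (fun l' hl' => (hdisj l l' hl'.symm).1)
        (hpu l),
      gen _ (hqξ l) (fun m => (hpr l m).2) (fun k => (hpa l k).2) (fun l' hl' => (hdisj l l' hl'.symm).2) (hqu l)⟩
  -- the rows of the elements of order six avoid the coherent part
  have hδr : ∀ i m, sixCoef Φ (r m).1 i * sixCoef Φ (r m).1 i = sixCoef Φ ξ.1 i * sixCoef Φ ξ.1 i := by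
    intro i m
    have e := h.six_del i m
    rw [← Finset.sum_subset (Finset.subset_univ {ξ, r m}) (fun χ _ hχ => by
        simp only [Finset.mem_insert, Finset.mem_singleton, not_or] at hχ
        rw [show del Φ m χ.1 = 0 from (hr m).2.2.2 χ hχ.1 hχ.2, mul_zero]), Finset.sum_pair (Ne.symm (hr m).1),
      show del Φ m ξ.1 = s from (hr m).2.1] at e
    have hu := (hr m).2.2.1
    linear_combination (sixCoef Φ (r m).1 i * del Φ m (r m).1 - sixCoef Φ ξ.1 i * s) * e
      + sixCoef Φ ξ.1 i ^ 2 * hs - sixCoef Φ (r m).1 i ^ 2 * hu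
  have hδξ : ∀ i, sixCoef Φ ξ.1 i = 0 := by
    intro i
    by_contra hne
    have hinj : Function.Injective (fun o : Option (Fin 4) => o.elim ξ r) := by
      rintro (_ | m) (_ | m') e
      · rfl
      · exact absurd e.symm (hr m').1
      · exact absurd e (hr m).1
      · exact congrArg some (hrinj e)
    obtain ⟨-, hz⟩ := full_support (n := 5) (f := fun χ : NonTriv G => sixCoef Φ χ.1 i)
      (by rw [h.six_six, if_pos rfl]; rfl) hinj (fun o => by
        rcases o with _ | m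
        · exact hne
        · intro e
          have := hδr i m
          simp only [Option.elim] at e
          rw [e, zero_mul] at this
          exact hne (mul_self_eq_zero.mp this.symm)) (by simp)
    have e := h.six_gam i 0
    have zP : sixCoef Φ (p 0).1 i = 0 := hz (p 0) fun o => by
      rcases o with _ | m
      exacts [(hpξ 0).symm, (hpr 0 m).1]
    have zQ : sixCoef Φ (q 0).1 i = 0 := hz (q 0) fun o => by
      rcases o with _ | m
      exacts [(hqξ 0).symm, (hpr 0 m).2]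
    rw [Finset.sum_eq_single ξ (fun χ _ hχ => ?_) (by simp), (hγ 0).1] at e
    · exact mul_ne_zero hne (neg_ne_zero.mpr hs0) e
    · by_cases h1 : χ = p 0
      · rw [h1, zP, zero_mul]
      by_cases h2 : χ = q 0
      · rw [h2, zQ, zero_mul]
      rw [show gam Φ 0 χ.1 = 0 from hpqz 0 χ hχ h1 h2, mul_zero]
  -- units on the short rows
  have hD3 : (3 : ℤ) ∣ D - 1 := by omega
  have hxi : ∀ i, (3 : ℤ) ∣ invVal Φ ξ.1 i := fun i => by
    have := (six_spec (Φ := Φ) ξ.1 i).2.2
    rwa [hδξ, add_zero] at this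
  have hδP : ∀ i, sixCoef Φ (p i).1 i ≠ 0 := by
    intro i he
    have e := (hblock i).2.2 i
    rw [if_pos rfl] at e
    refine unit_root hg3 (hPQ27 i).1 (hPQ27 i).2 hD27 e ?_
    have := y_congr (σ := gam Φ i (p i).1) (d := (deg (p i).1 : ℤ)) hDdef hD3
      (six_spec (Φ := Φ) (p i).1 i).2.2 (hxi i)
    rw [he, mul_zero, add_zero] at this
    exact this
  have hδQ : ∀ i, gam Φ i (q i).1 * sixCoef Φ (q i).1 i = -(gam Φ i (p i).1 * sixCoef Φ (p i).1 i) := by
    intro i
    have e := h.six_gam i i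
    have hinj : Function.Injective ![p i, q i] := pair_injective (hpq i)
    have hne : ∀ k, ![p i, q i] k ≠ ξ := by
      intro k; fin_cases k
      exacts [hpξ i, hqξ i]
    have x := expand_support (R := ℤ) (f := fun χ : NonTriv G => gam Φ i χ.1) hinj hne
      (fun χ h1 h2 => hpqz i χ h1 (fun e => h2 0 e.symm) fun e => h2 1 e.symm) (fun χ => sixCoef Φ χ.1 i)
    simp only [Int.cast_id, Fin.sum_univ_two, Matrix.cons_val_zero, Matrix.cons_val_one, hδξ, mul_zero,
      zero_add] at x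
    rw [Finset.sum_congr rfl fun χ _ => mul_comm (sixCoef Φ χ.1 i) (gam Φ i χ.1), x] at e
    linarith
  have hA0 : ∀ k, A k ≠ 0 := fun k => by have := hA1 k; omega
  have hpair : ∀ i j, (t i : ℚ) * t j * (∑ k, (U i k : ℚ) * U j k / A k - (S i : ℚ) * S j / D) =
      if i = j then (G₀ : ℚ) else 0 := by
    intro i j
    have e := h.structure_eq hG t ht i j 0 lM
    rw [show (∑ χ : NonTriv G, ((mult Φ χ.1 0 - mult Φ χ.1 lM : ℤ) : ℚ) * ushift Φ i χ.1 *
        ushift Φ j χ.1 / (deg χ.1 : ℚ)) = _ from (Finset.sum_congr rfl fun χ _ => show _ = ((beta Φ χ.1 : ℤ) : ℚ) *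
          ((ushift Φ i χ.1 : ℚ) * ushift Φ j χ.1 / (deg χ.1 : ℚ)) by rw [beta]; ring).trans
        (expand_support (f := fun χ : NonTriv G => beta Φ χ.1) hainj (fun k => (ha k).1) haz _)] at e
    rw [if_pos (perp_facts i).1, if_neg (perp_facts i).2.1, sub_zero, mul_one] at e
    refine Eq.trans ?_ e
    congr 1
    rw [sub_eq_neg_add]
    congr 1
    · rw [hβ.1]
      simp only [hSdef, hDdef]
      have := signed_term hs (ushift Φ i ξ.1) (ushift Φ j ξ.1) (deg ξ.1)
      push_cast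
      rw [← this]; ring
    · refine Finset.sum_congr rfl fun k _ => ?_
      have := signed_term (ha k).2 (ushift Φ i (a k).1) (ushift Φ j (a k).1) (deg (a k).1)
      simp only [hUdef, hAdef]
      push_cast
      rw [← this]; ring
  have hG0 : (G₀ : ℤ) ≠ 0 := fun e => hg3 (e ▸ dvd_zero 3)
  have hδa : ∀ i k, sixCoef Φ (a k).1 i ≠ 0 := by
    intro i k he
    have hY := all_units (g := (G₀ : ℤ)) hg3 (hA1 k) hD27
      (beta_completion (t := fun i => (t i : ℤ)) hA0 hDA hDne hG0 hUS (by simpa using hpair) k) i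
    refine hY (Dvd.dvd.mul_left ?_ _)
    have := y_congr (σ := beta Φ (a k).1) (d := (deg (a k).1 : ℤ)) hDdef hD3
      (six_spec (Φ := Φ) (a k).1 i).2.2 (hxi i)
    rw [he, mul_zero, add_zero] at this
    exact this
  have hQne : ∀ i, sixCoef Φ (q i).1 i ≠ 0 := fun i e => by
    have := hδQ i
    rw [e, mul_zero] at this
    rcases mul_eq_zero.mp (neg_eq_zero.mp this.symm) with e0 | e0
    · have h0 := hpu i; simp only [e0] at h0; norm_num at h0
    · exact hδP i e0
  have hsupp : ∀ i, (∀ b, sixCoef Φ (Sum.elim a ![p i, q i] b).1 i * sixCoef Φ (Sum.elim a ![p i, q i] b).1 i = 1) ∧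
      ∀ χ : NonTriv G, (∀ b, Sum.elim a ![p i, q i] b ≠ χ) → sixCoef Φ χ.1 i = 0 := fun i =>
    full_support (n := 5) (f := fun χ : NonTriv G => sixCoef Φ χ.1 i)
      (by rw [h.six_six, if_pos rfl]; rfl) (five_injective hainj (hpq i) (hpa i))
      (five_ne_zero (f := fun χ : NonTriv G => sixCoef Φ χ.1 i) (hδa i) (hδP i) (hQne i)) (by simp)
  have hfive : ∀ i, ∀ χ : NonTriv G, (∀ k, a k ≠ χ) → χ ≠ p i → χ ≠ q i → sixCoef Φ χ.1 i = 0 := by
    intro i χ h1 h2 h3
    refine (hsupp i).2 χ ?_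
    rintro (k | b)
    · exact h1 k
    · fin_cases b
      exacts [Ne.symm h2, Ne.symm h3]
  have hunit : ∀ i k, beta Φ (a k).1 * sixCoef Φ (a k).1 i = 1 ∨ beta Φ (a k).1 * sixCoef Φ (a k).1 i = -1 := by
    intro i k
    refine Int.eq_one_or_neg_one_of_mul_eq_one (v := beta Φ (a k).1 * sixCoef Φ (a k).1 i) ?_
    have h5 := (hsupp i).1 (Sum.inl k)
    simp only [Sum.elim_inl] at h5
    linear_combination (sixCoef Φ (a k).1 i * sixCoef Φ (a k).1 i) * (ha k).2 + h5
  -- sums against one row of order six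
  have sumδ : ∀ i, ∀ F : NonTriv G → ℤ, ∑ χ : NonTriv G, sixCoef Φ χ.1 i * F χ =
      ∑ k, sixCoef Φ (a k).1 i * F (a k) + sixCoef Φ (p i).1 i * F (p i) + sixCoef Φ (q i).1 i * F (q i) := by
    intro i F
    rw [sum_over (Sum.elim a ![p i, q i]) (five_injective hainj (hpq i) (hpa i)) (fun χ => sixCoef Φ χ.1 i * F χ)
      (fun χ hχ => ?_), Fintype.sum_sum_type, Fin.sum_univ_two, add_assoc]
    · rfl
    · rw [hfive i χ (fun k => hχ (Sum.inl k)) (fun e => hχ (Sum.inr 0) e.symm) (fun e => hχ (Sum.inr 1) e.symm),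
        zero_mul]
  have hminus : ∀ i, ∃ m, ∀ k, beta Φ (a k).1 * sixCoef Φ (a k).1 i = if k = m then -1 else 1 := by
    intro i
    let v : Fin 3 → Fin 2 := fun k => if beta Φ (a k).1 * sixCoef Φ (a k).1 i = 1 then 1 else 0
    have hv : ∀ k, 2 * ((v k : ℕ) : ℤ) - 1 = beta Φ (a k).1 * sixCoef Φ (a k).1 i := fun k => by
      rcases hunit i k with e | e <;> simp [v, e]
    obtain ⟨m, hm⟩ := one_minus v (by
      simp only [hv]
      have e := h.six_beta i
      rw [Finset.sum_congr rfl fun χ _ => mul_comm (sixCoef Φ χ.1 i) (beta Φ χ.1),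
        sumβ (fun χ => sixCoef Φ χ.1 i), hδξ, mul_zero, zero_add] at e
      exact e)
    exact ⟨m, fun k => by rw [← hv, hm]⟩
  choose μ hμ using hminus
  have hμinj : Function.Injective μ := by
    intro i j he
    by_contra hij
    refine minus_apart (μ i) (μ j) ?_ he
    have e := h.six_six i j
    rw [if_neg hij, sumδ i (fun χ => sixCoef Φ χ.1 j),
      hfive j (p i) (fun k => (hpa i k).1) (fun e => by
        have h0 := hpu i
        simp only [show gam Φ i (p i).1 = 0 by rw [e]; exact (hdisj j i (Ne.symm hij)).1] at h0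
        norm_num at h0) (fun e => by
        have h0 := hpu i
        simp only [show gam Φ i (p i).1 = 0 by rw [e]; exact (hdisj j i (Ne.symm hij)).2] at h0
        norm_num at h0),
      hfive j (q i) (fun k => (hpa i k).2) (fun e => by
        have h0 := hqu i
        simp only [show gam Φ i (q i).1 = 0 by rw [e]; exact (hdisj j i (Ne.symm hij)).1] at h0
        norm_num at h0) (fun e => by
        have h0 := hqu i
        simp only [show gam Φ i (q i).1 = 0 by rw [e]; exact (hdisj j i (Ne.symm hij)).2] at h0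
        norm_num at h0),
      mul_zero, mul_zero, add_zero, add_zero] at e
    refine Eq.trans ?_ e
    refine Finset.sum_congr rfl fun k _ => ?_
    rw [← hμ i k, ← hμ j k]
    linear_combination sixCoef Φ (a k).1 i * sixCoef Φ (a k).1 j * (ha k).2
  have hμbij : Function.Bijective μ := ⟨hμinj, Finite.injective_iff_surjective.mp hμinj⟩
  have hcross : ∀ i l, i ≠ l → D * U i (μ l) = S i * (1 + A (μ l)) := by
    intro i l hil
    have eqy : gam Φ l (p l).1 * ushift Φ i (p l).1 * D - S i * P l = 0 := by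
      have e := (hblock l).2.2 i
      rw [if_neg hil, zero_mul, zero_mul, zero_mul] at e
      exact mul_self_eq_zero.mp ((mul_eq_zero.mp e).resolve_left
        (mul_ne_zero (fun e0 => ht3' i (e0 ▸ dvd_zero 3)) (fun e0 => ht3' i (e0 ▸ dvd_zero 3))))
    have hsgn : ∀ k, sixCoef Φ (a k).1 l = (if k = μ l then -1 else 1) * beta Φ (a k).1 := fun k => by
      rw [← hμ l k]; linear_combination -(sixCoef Φ (a k).1 l) * (ha k).2
    have hsum : ∀ F : NonTriv G → ℤ, ∑ k, sixCoef Φ (a k).1 l * F (a k) =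
        (∑ k, beta Φ (a k).1 * F (a k)) - 2 * (beta Φ (a (μ l)).1 * F (a (μ l))) := fun F => by
      rw [Finset.sum_congr rfl fun k _ => show sixCoef Φ (a k).1 l * F (a k) = beta Φ (a k).1 * F (a k) -
          (if k = μ l then 2 * (beta Φ (a k).1 * F (a k)) else 0) by rw [hsgn]; split_ifs <;> ring,
        Finset.sum_sub_distrib, Finset.sum_ite_eq' Finset.univ (μ l), if_pos (Finset.mem_univ _)]
    have e1 := h.six_deg l
    rw [sumδ l (fun χ => (deg χ.1 : ℤ)), hsum (fun χ => (deg χ.1 : ℤ))] at e1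
    have e2 := h.six_ushift l i
    rw [sumδ l (fun χ => ushift Φ i χ.1), hsum (fun χ => ushift Φ i χ.1)] at e2
    have hq' : sixCoef Φ (q l).1 l = -(gam Φ l (p l).1 * sixCoef Φ (p l).1 l) * gam Φ l (q l).1 := by
      linear_combination gam Φ l (q l).1 * hδQ l - sixCoef Φ (q l).1 l * hqu l
    have hp' : sixCoef Φ (p l).1 l = (gam Φ l (p l).1 * sixCoef Φ (p l).1 l) * gam Φ l (p l).1 := by
      linear_combination -(sixCoef Φ (p l).1 l) * hpu l
    obtain ⟨bd, bu, -⟩ := hblock l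
    have su : ∑ k, beta Φ (a k).1 * ushift Φ i (a k).1 = s * ushift Φ i ξ.1 := hUS i
    have sd : ∑ k, beta Φ (a k).1 * (deg (a k).1 : ℤ) = s * deg ξ.1 - 1 := by
      have e0 : D = 1 + ∑ k, beta Φ (a k).1 * (deg (a k).1 : ℤ) := hDA
      rw [hDdef] at e0; linarith
    have bu := bu i
    have hd : gam Φ l (p l).1 * sixCoef Φ (p l).1 l = 1 ∨ gam Φ l (p l).1 * sixCoef Φ (p l).1 l = -1 := by
      refine Int.eq_one_or_neg_one_of_mul_eq_one (v := gam Φ l (p l).1 * sixCoef Φ (p l).1 l) ?_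
      have h1 := (hsupp l).1 (Sum.inr 0)
      simp only [Sum.elim_inr, Matrix.cons_val_zero] at h1
      linear_combination (sixCoef Φ (p l).1 l * sixCoef Φ (p l).1 l) * hpu l + h1
    simp only [hPdef, hSdef, hDdef] at eqy
    simp only [hUdef, hAdef, hSdef, hDdef]
    rcases hd with hd | hd <;> rw [hd] at hq' hp' <;> rw [hq', hp'] at e1 e2
    · have a1 : gam Φ l (p l).1 * deg (p l).1 = 1 + beta Φ (a (μ l)).1 * deg (a (μ l)).1 := by linarith
      have a2 : gam Φ l (p l).1 * ushift Φ i (p l).1 = beta Φ (a (μ l)).1 * ushift Φ i (a (μ l)).1 := by linarith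
      rw [a1, a2] at eqy
      linarith
    · have a1 : gam Φ l (q l).1 * deg (q l).1 = 1 + beta Φ (a (μ l)).1 * deg (a (μ l)).1 := by linarith
      have a2 : gam Φ l (q l).1 * ushift Φ i (q l).1 = beta Φ (a (μ l)).1 * ushift Φ i (a (μ l)).1 := by linarith
      have a3 : gam Φ l (q l).1 * ushift Φ i (q l).1 * (s * deg ξ.1) -
          s * ushift Φ i ξ.1 * (gam Φ l (q l).1 * deg (q l).1) = 0 := by
        linear_combination (s * (deg ξ.1 : ℤ)) * bu - (s * ushift Φ i ξ.1) * bd - eqy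
      rw [a1, a2] at a3
      linarith
  let eμ := Equiv.ofBijective μ hμbij
  obtain hsol := plane_solution (b := fun l => A (μ l)) (V := fun i l => U i (μ l)) (S := S)
    (t := fun i => (t i : ℤ)) (D := D) (g := (G₀ : ℤ)) (fun l => hA0 _)
    (by rw [hDA, ← Equiv.sum_comp eμ A]; rfl) hDne hG0 hcross
    (fun i => by rw [← hUS i, ← Equiv.sum_comp eμ (U i)]; rfl)
    (fun i j => by
      have e := hpair i j
      rw [← Equiv.sum_comp eμ (fun k => (U i k : ℚ) * U j k / A k)] at e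
      simpa [eμ] using e)
  intro i
  obtain ⟨l, hil⟩ : ∃ l, i ≠ l := (by decide : ∀ i : Fin 3, ∃ l, i ≠ l) i
  obtain ⟨hb, hV⟩ := hsol l
  have hV := hV i hil
  have hdeg : deg (a (μ l)).1 = 1 := by
    rcases Int.eq_one_or_neg_one_of_mul_eq_one (show beta Φ (a (μ l)).1 * beta Φ (a (μ l)).1 = 1 from (ha _).2)
      with e | e <;> simp only [hAdef, e] at hb <;> omega
  have h1 : ((a (μ l)).1 : G → ℂ) 1 = 1 := by rw [deg_spec, hdeg]; norm_num
  refine ⟨linearHom (isCharacter_of_isIrr (a (μ l)).1.2) h1, fun he => hV ?_⟩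
  have e := congrArg Units.val he
  rw [linearHom_apply, (six_spec (a (μ l)).1 i).2.1, Units.val_one] at e
  have : invVal Φ (a (μ l)).1 i = 1 := by exact_mod_cast e
  simp only [hUdef, ushift, this, hdeg]
  norm_num

end CfsgLib.SmallGroups.ThreeCube
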