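import Cfsg.Agent.Lib.SmallGroups.ThreeCube.Six
import Mathlib

/-!
The rows on the non-trivial irreducible characters and their equations.
-/

set_option autoImplicit false

namespace CfsgLib.SmallGroups.ThreeCube

open Cfsg CfsgLib.Char CfsgLib.InvolChar
open CfsgLib.SmallGroups.DihedralThree (value_conj total)
open scoped ComplexConjugate

/-- The distinguished weight. -/
def lM : V := (1, 1, 0)

/-- The other long orbits of weights. -/
def lO : Fin 4 → V := ![(1, 0, 1), (0, 1, 1), (1, 1, 1), (2, 2, 2)]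

/-- The number of `w` with `w m = l`. -/
def orbN (l m : V) : ℤ := ((Finset.univ.filter fun w : W => signAct w m = l).card : ℤ)

theorem gram_counts :
    (orbN 0 0 - orbN 0 lM - orbN lM 0 + orbN lM lM = 5) ∧
    (∀ l, orbN 0 (axisV l) - orbN 0 lM - orbN lM (axisV l) + orbN lM lM = 1) ∧
    (∀ l l', orbN (axisV l) (axisV l') - orbN (axisV l) lM - orbN lM (axisV l') + orbN lM lM =
      if l = l' then 3 else 1) ∧
    (∀ m, orbN 0 lM - orbN 0 (lO m) - orbN lM lM + orbN lM (lO m) = -1) ∧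
    (∀ l m, orbN (axisV l) lM - orbN (axisV l) (lO m) - orbN lM lM + orbN lM (lO m) = -1) ∧
    (∀ m m', orbN lM lM - orbN lM (lO m') - orbN (lO m) lM + orbN (lO m) (lO m') =
      if m = m' then 2 else 1) := by decide +kernel

/-- Representatives of the orbits of weights. -/
def repV : Fin 9 → V := ![0, (1, 0, 0), (0, 1, 0), (0, 0, 1), (1, 1, 0), (1, 0, 1), (0, 1, 1), (1, 1, 1), (2, 2, 2)]

/-- The orbit of a weight. -/
def orbitOf (l : V) : Fin 9 :=
  ((List.finRange 9).find? fun k => decide (∃ w, signAct w (repV k) = l)).getD 0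

theorem orbitOf_spec : ∀ l, ∃ w, signAct w (repV (orbitOf l)) = l := by decide +kernel

theorem orbitOf_card : ∀ k, (Finset.univ.filter fun l => orbitOf l = k).card = ![1, 2, 2, 2, 4, 4, 4, 4, 4] k := by
  decide +kernel

theorem perp_facts : ∀ i, (∀ t ∈ plane i, dotV 0 t = 0) ∧ ¬ (∀ t ∈ plane i, dotV lM t = 0) ∧
    ∀ l, ((∀ t ∈ plane i, dotV (axisV l) t = 0) ↔ i = l) := by decide +kernel

variable {G : Type*} [Group G] {Φ : Local108 →* G} [Fintype G]

noncomputable def beta (Φ : Local108 →* G) (χ : IrrCharacter G) : ℤ := mult Φ χ 0 - mult Φ χ lM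

noncomputable def gam (Φ : Local108 →* G) (l : Fin 3) (χ : IrrCharacter G) : ℤ :=
  mult Φ χ (axisV l) - mult Φ χ lM

noncomputable def del (Φ : Local108 →* G) (m : Fin 4) (χ : IrrCharacter G) : ℤ := mult Φ χ lM - mult Φ χ (lO m)

/-- The shifted value at an involution. -/
noncomputable def ushift (Φ : Local108 →* G) (i : Fin 3) (χ : IrrCharacter G) : ℤ :=
  invVal Φ χ i - (deg χ : ℤ)

theorem rows_irrOne : beta Φ (irrOne : IrrCharacter G) = 1 ∧ (∀ l, gam Φ l (irrOne : IrrCharacter G) = 0) ∧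
    (∀ m, del Φ m (irrOne : IrrCharacter G) = 0) ∧ ∀ i, ushift Φ i (irrOne : IrrCharacter G) = 0 := by
  refine ⟨?_, fun l => ?_, fun m => ?_, fun i => ?_⟩
  · rw [beta, mult_irrOne, mult_irrOne, if_pos rfl, if_neg (by decide)]; norm_num
  · rw [gam, mult_irrOne, mult_irrOne, if_neg (by revert l; decide), if_neg (by decide)]; norm_num
  · rw [del, mult_irrOne, mult_irrOne, if_neg (by decide), if_neg (by revert m; decide)]; norm_num
  · rw [ushift, invVal_irrOne, deg_irrOne]; norm_num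

theorem deg_split (χ : IrrCharacter G) : (deg χ : ℤ) =
    27 * mult Φ χ lM + beta Φ χ + 2 * ∑ l, gam Φ l χ - 4 * ∑ m, del Φ m χ := by
  classical
  rw [← mult_total (Φ := Φ) χ]
  have e : ∑ l : V, mult Φ χ l = ∑ k, ((![1, 2, 2, 2, 4, 4, 4, 4, 4] k : ℕ) : ℤ) * mult Φ χ (repV k) := by
    rw [← Finset.sum_fiberwise Finset.univ orbitOf (fun l => mult Φ χ l)]
    refine Finset.sum_congr rfl fun k _ => ?_
    rw [Finset.sum_congr rfl (g := fun _ => mult Φ χ (repV k)) fun l hl => ?_, Finset.sum_const, orbitOf_card,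
      nsmul_eq_mul]
    obtain ⟨w, hw⟩ := orbitOf_spec l
    rw [(Finset.mem_filter.mp hl).2] at hw
    rw [← hw, mult_sign]
  rw [e]
  simp [Fin.sum_univ_succ, beta, gam, del, repV, axisV, lM, lO]
  ring

/-- The non-trivial irreducible characters. -/
abbrev NonTriv (G : Type*) [Group G] [Fintype G] := {χ : IrrCharacter G // χ ≠ (irrOne : IrrCharacter G)}

theorem sum_nontriv {M : Type*} [AddCommGroup M] [Fintype (NonTriv G)] (F : IrrCharacter G → M) :
    ∑ χ : NonTriv G, F χ.1 = ∑ χ, F χ - F (irrOne : IrrCharacter G) := by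
  classical
  rw [← Finset.add_sum_erase _ _ (Finset.mem_univ (irrOne : IrrCharacter G)), add_sub_cancel_left]
  exact (Finset.sum_subtype _ (fun χ => by simp) F).symm

section Equations

variable [Fintype (NonTriv G)] (h : Loc Φ)
include h

theorem Loc.beta_beta : ∑ χ : NonTriv G, beta Φ χ.1 * beta Φ χ.1 = 4 := by
  rw [sum_nontriv (fun χ => beta Φ χ * beta Φ χ), rows_irrOne.1]
  simp only [beta]
  rw [h.gram]
  have := gram_counts.1
  simp only [orbN] at this
  omega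

theorem Loc.beta_gam (l : Fin 3) : ∑ χ : NonTriv G, beta Φ χ.1 * gam Φ l χ.1 = 1 := by
  rw [sum_nontriv (fun χ => beta Φ χ * gam Φ l χ), rows_irrOne.1, rows_irrOne.2.1]
  simp only [beta, gam]
  rw [h.gram]
  have := gram_counts.2.1 l
  simp only [orbN] at this
  omega

theorem Loc.gam_gam (l l' : Fin 3) :
    ∑ χ : NonTriv G, gam Φ l χ.1 * gam Φ l' χ.1 = if l = l' then 3 else 1 := by
  rw [sum_nontriv (fun χ => gam Φ l χ * gam Φ l' χ), rows_irrOne.2.1, zero_mul, sub_zero]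
  simp only [gam]
  rw [h.gram]
  exact gram_counts.2.2.1 l l'

theorem Loc.beta_del (m : Fin 4) : ∑ χ : NonTriv G, beta Φ χ.1 * del Φ m χ.1 = -1 := by
  rw [sum_nontriv (fun χ => beta Φ χ * del Φ m χ), rows_irrOne.2.2.1, mul_zero, sub_zero]
  simp only [beta, del]
  rw [h.gram]
  exact gram_counts.2.2.2.1 m

theorem Loc.gam_del (l : Fin 3) (m : Fin 4) : ∑ χ : NonTriv G, gam Φ l χ.1 * del Φ m χ.1 = -1 := by
  rw [sum_nontriv (fun χ => gam Φ l χ * del Φ m χ), rows_irrOne.2.2.1, mul_zero, sub_zero]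
  simp only [gam, del]
  rw [h.gram]
  exact gram_counts.2.2.2.2.1 l m

theorem Loc.del_del (m m' : Fin 4) :
    ∑ χ : NonTriv G, del Φ m χ.1 * del Φ m' χ.1 = if m = m' then 2 else 1 := by
  rw [sum_nontriv (fun χ => del Φ m χ * del Φ m' χ), rows_irrOne.2.2.1, zero_mul, sub_zero]
  simp only [del]
  rw [h.gram]
  exact gram_counts.2.2.2.2.2 m m'

theorem Loc.six_six (i j : Fin 3) :
    ∑ χ : NonTriv G, sixCoef Φ χ.1 i * sixCoef Φ χ.1 j = if i = j then 5 else -1 := by
  rw [sum_nontriv (fun χ => sixCoef Φ χ i * sixCoef Φ χ j), sixCoef_irrOne, sixCoef_irrOne, h.sum_six_six]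
  split_ifs <;> norm_num

theorem Loc.six_beta (i : Fin 3) : ∑ χ : NonTriv G, sixCoef Φ χ.1 i * beta Φ χ.1 = 1 := by
  rw [sum_nontriv (fun χ => sixCoef Φ χ i * beta Φ χ), rows_irrOne.1, sixCoef_irrOne]
  simp only [beta]
  rw [h.sum_six_mult]; norm_num

theorem Loc.six_gam (i l : Fin 3) : ∑ χ : NonTriv G, sixCoef Φ χ.1 i * gam Φ l χ.1 = 0 := by
  rw [sum_nontriv (fun χ => sixCoef Φ χ i * gam Φ l χ), rows_irrOne.2.1, mul_zero, sub_zero]
  exact h.sum_six_mult i _ _

theorem Loc.six_del (i : Fin 3) (m : Fin 4) : ∑ χ : NonTriv G, sixCoef Φ χ.1 i * del Φ m χ.1 = 0 := by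
  rw [sum_nontriv (fun χ => sixCoef Φ χ i * del Φ m χ), rows_irrOne.2.2.1, mul_zero, sub_zero]
  exact h.sum_six_mult i _ _

theorem Loc.sum_mult_deg (l m : V) : ∑ χ : IrrCharacter G, (mult Φ χ l - mult Φ χ m) * (deg χ : ℤ) = 0 := by
  have e := h.sum_mult_mul (one_mul (1 : G)) l m
  simp only [deg_spec] at e
  exact_mod_cast e

theorem Loc.sum_mult_ushift (i : Fin 3) (l m : V) :
    ∑ χ : IrrCharacter G, (mult Φ χ l - mult Φ χ m) * ushift Φ i χ = 0 := by
  have e := h.sum_mult_mul (x := Φ (inv3 i)) (by rw [← map_mul, (inv3_facts i).1, map_one]) l m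
  simp only [fun χ : IrrCharacter G => (six_spec (Φ := Φ) χ i).2.1] at e
  have e' : ∑ χ : IrrCharacter G, (mult Φ χ l - mult Φ χ m) * invVal Φ χ i = 0 := by exact_mod_cast e
  simp only [ushift, mul_sub, Finset.sum_sub_distrib, e', h.sum_mult_deg l m, sub_zero]

theorem Loc.beta_deg : ∑ χ : NonTriv G, beta Φ χ.1 * (deg χ.1 : ℤ) = -1 := by
  rw [sum_nontriv (fun χ => beta Φ χ * (deg χ : ℤ)), rows_irrOne.1, deg_irrOne]
  simp only [beta]
  rw [h.sum_mult_deg]; norm_num

theorem Loc.gam_deg (l : Fin 3) : ∑ χ : NonTriv G, gam Φ l χ.1 * (deg χ.1 : ℤ) = 0 := by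
  rw [sum_nontriv (fun χ => gam Φ l χ * (deg χ : ℤ)), rows_irrOne.2.1, zero_mul, sub_zero]
  exact h.sum_mult_deg _ _

theorem Loc.beta_ushift (i : Fin 3) : ∑ χ : NonTriv G, beta Φ χ.1 * ushift Φ i χ.1 = 0 := by
  rw [sum_nontriv (fun χ => beta Φ χ * ushift Φ i χ), rows_irrOne.2.2.2, mul_zero, sub_zero]
  exact h.sum_mult_ushift i _ _

theorem Loc.gam_ushift (l i : Fin 3) : ∑ χ : NonTriv G, gam Φ l χ.1 * ushift Φ i χ.1 = 0 := by
  rw [sum_nontriv (fun χ => gam Φ l χ * ushift Φ i χ), rows_irrOne.2.2.2, mul_zero, sub_zero]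
  exact h.sum_mult_ushift i _ _

theorem Loc.sum_six_deg (j : Fin 3) : ∑ χ : IrrCharacter G, sixCoef Φ χ j * (deg χ : ℤ) = 0 := by
  have e := h.sum_six_sq (one_mul (1 : G)) j
  simp only [deg_spec] at e
  exact_mod_cast e

theorem Loc.six_deg (j : Fin 3) : ∑ χ : NonTriv G, sixCoef Φ χ.1 j * (deg χ.1 : ℤ) = 1 := by
  rw [sum_nontriv (fun χ => sixCoef Φ χ j * (deg χ : ℤ)), sixCoef_irrOne, deg_irrOne, h.sum_six_deg]
  norm_num

theorem Loc.six_ushift (j i : Fin 3) : ∑ χ : NonTriv G, sixCoef Φ χ.1 j * ushift Φ i χ.1 = 0 := by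
  rw [sum_nontriv (fun χ => sixCoef Φ χ j * ushift Φ i χ), rows_irrOne.2.2.2, mul_zero, sub_zero]
  have e := h.sum_six_sq (x := Φ (inv3 i)) (by rw [← map_mul, (inv3_facts i).1, map_one]) j
  simp only [fun χ : IrrCharacter G => (six_spec (Φ := Φ) χ i).2.1] at e
  have e' : ∑ χ : IrrCharacter G, sixCoef Φ χ j * invVal Φ χ i = 0 := by exact_mod_cast e
  simp only [ushift, mul_sub, Finset.sum_sub_distrib, e', h.sum_six_deg j, sub_zero]

omit [Fintype (NonTriv G)]

theorem Loc.kind_card (i : Fin 3) {G₀ : ℕ} (hG : Nat.card G = 27 * G₀) (hG3 : ¬ 3 ∣ G₀) :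
    ∃ t : ℕ, (kindSet Φ i).card = 9 * t ∧ ¬ 3 ∣ t := by
  classical
  set C := Subgroup.centralizer ({Φ (inv3 i)} : Set G)
  have hTC : (kindSet Φ i).card * Nat.card C = Nat.card G := by
    rw [← card_isConj_mul_card_centralizer (Φ (inv3 i))]
    congr 1
    rw [Nat.card_eq_fintype_card, Fintype.card_subtype]
    exact congrArg Finset.card (Finset.ext fun x => by simp [mem_kindSet])
  have h3C : 3 ∣ Nat.card C := by
    have hc : Φ (pt (axisV i)) ∈ C := Subgroup.mem_centralizer_singleton_iff.mpr (by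
      rw [← map_mul, ← map_mul, (inv3_facts i).2.2.2])
    have hne : axisV i ≠ 0 := (by decide : ∀ i, axisV i ≠ 0) i
    have ho : orderOf (⟨Φ (pt (axisV i)), hc⟩ : C) = 3 := by
      haveI : Fact (Nat.Prime 3) := ⟨Nat.prime_three⟩
      rw [← orderOf_injective C.subtype Subtype.val_injective]
      refine orderOf_eq_prime ?_ ?_
      · show Φ (pt (axisV i)) ^ 3 = 1
        rw [← map_pow, (pt_facts _).1, map_one]
      · exact fun e => ((pt_facts _).2 hne).1 (h.inj (e.trans (map_one Φ).symm))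
    exact ho ▸ orderOf_dvd_natCard _
  obtain ⟨c, hc⟩ := h3C
  have hc3 : ¬ 3 ∣ c := fun hd => h.inv9 i (by
    rw [show Nat.card (Subgroup.centralizer ({Φ (inv3 i)} : Set G)) = 3 * c from hc]
    exact Nat.mul_dvd_mul_left 3 hd)
  set n := (kindSet Φ i).card
  rw [hc, hG] at hTC
  have hn : n * c = 9 * G₀ := by linarith
  have hd : 9 ∣ n := by
    have hcop : Nat.Coprime 9 c :=
      Nat.Coprime.pow_left 2 ((Nat.prime_three.coprime_iff_not_dvd).mpr hc3)
    exact hcop.dvd_of_dvd_mul_right ⟨G₀, hn⟩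
  obtain ⟨t, ht⟩ := hd
  refine ⟨t, ht, fun h3 => hG3 ?_⟩
  have : t * c = G₀ := by rw [ht] at hn; linarith
  exact this ▸ dvd_mul_of_dvd_left h3 c

variable [Fintype (NonTriv G)]

/-- The structure equations, with the class sizes divided out. -/
theorem Loc.structure_eq {G₀ : ℕ} (hG : Nat.card G = 27 * G₀) (t : Fin 3 → ℕ)
    (ht : ∀ i, (kindSet Φ i).card = 9 * t i) (i j : Fin 3) (l m : V) :
    (t i : ℚ) * t j * ∑ χ : NonTriv G, ((mult Φ χ.1 l - mult Φ χ.1 m : ℤ) : ℚ) * ushift Φ i χ.1 *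
        ushift Φ j χ.1 / (deg χ.1 : ℚ) =
      if i = j then (G₀ : ℚ) * ((if ∀ t ∈ plane i, dotV l t = 0 then 1 else 0) -
        (if ∀ t ∈ plane i, dotV m t = 0 then 1 else 0)) else 0 := by
  classical
  rw [sum_nontriv (fun χ => ((mult Φ χ l - mult Φ χ m : ℤ) : ℚ) * ushift Φ i χ * ushift Φ j χ / (deg χ : ℚ)),
    rows_irrOne.2.2.2, Int.cast_zero, mul_zero, zero_mul, zero_div, sub_zero]
  have hX : ∀ k (χ : IrrCharacter G), total (kindSet Φ k) χ - (kindSet Φ k).card * (χ : G → ℂ) 1 =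
      9 * (t k : ℂ) * (ushift Φ k χ : ℂ) := by
    intro k χ
    rw [total, Finset.sum_congr rfl fun x hx => (value_conj χ (mem_kindSet.mp hx)).symm, Finset.sum_const,
      nsmul_eq_mul, (six_spec χ k).2.1, deg_spec, ht, ushift]
    push_cast; ring
  have e := h.pairs h.apart i j l m
  simp only [hX, hG] at e
  simp only [deg_spec] at e
  refine mul_left_cancel₀ (show (81 : ℚ) ≠ 0 by norm_num) (Rat.cast_injective (α := ℂ) ?_)
  push_cast
  rw [Finset.mul_sum, Finset.mul_sum]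
  refine (Finset.sum_congr rfl fun χ _ => ?_).trans (e.trans ?_)
  · ring
  · split_ifs <;> push_cast <;> ring

end Equations

end CfsgLib.SmallGroups.ThreeCube
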