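import Cfsg.Agent.Lib.SmallGroups.ThreeCube.Local
import Mathlib

/-!
Values on the elements of order six, and the three kinds of involutions.
-/

set_option autoImplicit false

namespace CfsgLib.SmallGroups.ThreeCube

open Cfsg CfsgLib.Char CfsgLib.InvolChar
open CfsgLib.SmallGroups.DihedralThree (twisted_sum value_conj sum_three_two)
open scoped ComplexConjugate

/-- `C₃ × C₂` on an axis. -/
def sixMap (i : Fin 3) (a : ZMod 3) (b : ZMod 2) : Local108 := pt (axisV i) ^ a.val * inv3 i ^ b.val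

theorem sixMap_mul : ∀ i a b a' b', sixMap i (a + a') (b + b') = sixMap i a b * sixMap i a' b' := by decide +kernel

theorem sixMap_values : ∀ i, sixMap i 0 0 = 1 ∧ sixMap i 0 1 = inv3 i ∧
    ∀ a, a ≠ 0 → (∃ c, c * pt (axisV i) * c⁻¹ = sixMap i a 0) ∧ (∃ c, c * six3 i * c⁻¹ = sixMap i a 1) := by
  decide +kernel

variable {G : Type*} [Group G] {Φ : Local108 →* G}

theorem isConj_image {a b : Local108} (h : ∃ c, c * a * c⁻¹ = b) : IsConj (Φ a) (Φ b) := by
  obtain ⟨c, rfl⟩ := h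
  exact isConj_iff.mpr ⟨Φ c, by simp⟩

/-- The phase as a character of the first coordinate. -/
noncomputable def firstPhase (A : Type) [AddCommGroup A] (π : A →+ ZMod 3) : Multiplicative A →* ℂˣ where
  toFun p := phase (π p.toAdd)
  map_one' := by simp [phase_zero]
  map_mul' p q := by rw [toAdd_mul, map_add, phase_add]

variable [Fintype G]

theorem six_values (Φ : Local108 →* G) (χ : IrrCharacter G) (i : Fin 3) :
    ∃ As x : ℤ, (χ : G → ℂ) (Φ (six3 i)) = As ∧ (χ : G → ℂ) (Φ (inv3 i)) = x ∧ (3 : ℤ) ∣ x - As := by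
  obtain ⟨e00, e01, ea⟩ := sixMap_values i
  let j : Multiplicative (ZMod 3 × ZMod 2) →* G := Φ.comp
    { toFun := fun p => sixMap i p.toAdd.1 p.toAdd.2
      map_one' := e00
      map_mul' := fun p q => sixMap_mul i _ _ _ _ }
  have hx2 : Φ (inv3 i) * Φ (inv3 i) = 1 := by rw [← map_mul, (inv3_facts i).1, map_one]
  set x := intVal χ hx2
  have hx := intVal_spec χ hx2
  set A₀ := (χ : G → ℂ) (Φ (pt (axisV i)))
  set As₀ := (χ : G → ℂ) (Φ (six3 i))
  have hv : ∀ a : ZMod 3, a ≠ 0 → (χ : G → ℂ) (j (Multiplicative.ofAdd (a, 0))) = A₀ ∧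
      (χ : G → ℂ) (j (Multiplicative.ofAdd (a, 1))) = As₀ := fun a ha =>
    ⟨(value_conj χ (isConj_image (ea a ha).1)).symm, (value_conj χ (isConj_image (ea a ha).2)).symm⟩
  have h0 : (χ : G → ℂ) (j (Multiplicative.ofAdd (0, 0))) = deg χ := by
    rw [show (Multiplicative.ofAdd ((0, 0) : ZMod 3 × ZMod 2)) = 1 from rfl, map_one, deg_spec]
  have h01 : (χ : G → ℂ) (j (Multiplicative.ofAdd (0, 1))) = x := by
    rw [show j (Multiplicative.ofAdd (0, 1)) = Φ (inv3 i) from congrArg Φ e01]; exact hx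
  let i₃ : Multiplicative (ZMod 3) →* Multiplicative (ZMod 3 × ZMod 2) :=
    (AddMonoidHom.inl (ZMod 3) (ZMod 2)).toMultiplicative
  obtain ⟨n', hn'⟩ := twisted_sum (j.comp i₃) 1 χ
  obtain ⟨m', hm'⟩ := twisted_sum (j.comp i₃) (firstPhase _ (AddMonoidHom.id (ZMod 3))) χ
  have s3 : ∀ F : ZMod 3 → ℂ, ∑ p : Multiplicative (ZMod 3), F p.toAdd = F 0 + F 1 + F 2 := by
    intro F
    rw [Equiv.sum_comp Multiplicative.toAdd F]
    exact Fin.sum_univ_three F
  rw [show (∑ p : Multiplicative (ZMod 3), (χ : G → ℂ) ((j.comp i₃) p) * ((1 : Multiplicative (ZMod 3) →* ℂˣ) p : ℂ))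
      = _ from s3 fun a => (χ : G → ℂ) (j (Multiplicative.ofAdd (a, 0))) * 1] at hn'
  rw [show (∑ p : Multiplicative (ZMod 3), (χ : G → ℂ) ((j.comp i₃) p) * ((firstPhase _ (AddMonoidHom.id (ZMod 3))) p : ℂ))
      = _ from s3 fun a => (χ : G → ℂ) (j (Multiplicative.ofAdd (a, 0))) * (phase a : ℂ)] at hm'
  simp only [h0, (hv 1 (by decide)).1, (hv 2 (by decide)).1, phase, Units.val_pow_eq_pow_val] at hn' hm'
  simp only [show (0 : ZMod 3).val = 0 from rfl, show (1 : ZMod 3).val = 1 from rfl,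
    show (2 : ZMod 3).val = 2 from rfl, Fintype.card_multiplicative, ZMod.card, pow_zero, pow_one] at hn' hm'
  have hA : A₀ = ((n' - m' : ℤ) : ℂ) := by
    push_cast at hn' hm' ⊢
    linear_combination (hn' - hm' + A₀ * omega_sum) / 3
  obtain ⟨n, hn⟩ := twisted_sum j 1 χ
  obtain ⟨m, hm⟩ := twisted_sum j (firstPhase _ (AddMonoidHom.fst (ZMod 3) (ZMod 2))) χ
  rw [show (∑ p : Multiplicative (ZMod 3 × ZMod 2), (χ : G → ℂ) (j p) * ((1 : Multiplicative (ZMod 3 × ZMod 2) →* ℂˣ) p : ℂ))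
      = _ from sum_three_two fun a b => (χ : G → ℂ) (j (Multiplicative.ofAdd (a, b))) * 1] at hn
  rw [show (∑ p : Multiplicative (ZMod 3 × ZMod 2), (χ : G → ℂ) (j p) * ((firstPhase _ (AddMonoidHom.fst (ZMod 3) (ZMod 2))) p : ℂ))
      = _ from sum_three_two fun a b => (χ : G → ℂ) (j (Multiplicative.ofAdd (a, b))) * (phase a : ℂ)] at hm
  simp only [h0, h01, (hv 1 (by decide)).1, (hv 2 (by decide)).1, (hv 1 (by decide)).2, (hv 2 (by decide)).2,
    phase, Units.val_pow_eq_pow_val] at hn hm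
  simp only [show (0 : ZMod 3).val = 0 from rfl, show (1 : ZMod 3).val = 1 from rfl,
    show (2 : ZMod 3).val = 2 from rfl, Fintype.card_multiplicative, Fintype.card_prod, ZMod.card, pow_zero,
    pow_one] at hn hm
  have hAs : As₀ = ((2 * (n - m) - (n' - m') : ℤ) : ℂ) := by
    push_cast at hn hm ⊢
    rw [hA] at hn hm
    push_cast at hn hm
    linear_combination (hn - hm + ((n' : ℂ) - m' + As₀) * omega_sum) / 3
  refine ⟨2 * (n - m) - (n' - m'), x, hAs, hx, ?_⟩
  have e : ((6 * n : ℤ) : ℂ) = (((deg χ : ℤ) + x + 2 * (n' - m') + 2 * (2 * (n - m) - (n' - m')) : ℤ) : ℂ) := by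
    push_cast; rw [hA, hAs] at hn; push_cast at hn; linear_combination -hn
  have e2 : ((3 * n' : ℤ) : ℂ) = (((deg χ : ℤ) + 2 * (n' - m') : ℤ) : ℂ) := by
    push_cast; rw [hA] at hn'; push_cast at hn'; linear_combination -hn'
  have i1 : 6 * n = (deg χ : ℤ) + x + 2 * (n' - m') + 2 * (2 * (n - m) - (n' - m')) := by exact_mod_cast e
  have i2 : 3 * n' = (deg χ : ℤ) + 2 * (n' - m') := by exact_mod_cast e2
  omega

/-- Minus the value at the element of order six on axis `i`. -/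
noncomputable def sixCoef (Φ : Local108 →* G) (χ : IrrCharacter G) (i : Fin 3) : ℤ :=
  -(six_values Φ χ i).choose

/-- The value at the involution on axis `i`. -/
noncomputable def invVal (Φ : Local108 →* G) (χ : IrrCharacter G) (i : Fin 3) : ℤ :=
  (six_values Φ χ i).choose_spec.choose

theorem six_spec (χ : IrrCharacter G) (i : Fin 3) :
    (χ : G → ℂ) (Φ (six3 i)) = ((-sixCoef Φ χ i : ℤ) : ℂ) ∧ (χ : G → ℂ) (Φ (inv3 i)) = (invVal Φ χ i : ℂ) ∧
      (3 : ℤ) ∣ invVal Φ χ i + sixCoef Φ χ i := by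
  obtain ⟨h1, h2, h3⟩ := (six_values Φ χ i).choose_spec.choose_spec
  refine ⟨by rw [h1, sixCoef, neg_neg], h2, ?_⟩
  rw [sixCoef, ← sub_eq_add_neg]
  exact h3

theorem sixCoef_irrOne (i : Fin 3) : sixCoef Φ (irrOne : IrrCharacter G) i = -1 := by
  have h := (six_spec (Φ := Φ) (irrOne : IrrCharacter G) i).1
  rw [irrOne_apply] at h
  have : -sixCoef Φ (irrOne : IrrCharacter G) i = 1 := by exact_mod_cast h.symm
  omega

theorem invVal_irrOne (i : Fin 3) : invVal Φ (irrOne : IrrCharacter G) i = 1 := by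
  have h := (six_spec (Φ := Φ) (irrOne : IrrCharacter G) i).2.1
  rw [irrOne_apply] at h
  exact_mod_cast h.symm

theorem Loc.six_real (χ : IrrCharacter G) (i : Fin 3) :
    conj ((χ : G → ℂ) (Φ (six3 i))) = (χ : G → ℂ) (Φ (six3 i)) := by
  rw [(six_spec χ i).1, map_intCast]

theorem Loc.sum_six_six (h : Loc Φ) (i j : Fin 3) :
    ∑ χ : IrrCharacter G, sixCoef Φ χ i * sixCoef Φ χ j = if i = j then 6 else 0 := by
  classical
  have key : ∀ (g : G), g * Φ (six3 i) * g⁻¹ = Φ (six3 j) → g ∈ Φ.range := by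
    intro g hg
    refine h.fus (axisV i) (axisV j) ((by decide : ∀ i, axisV i ≠ 0) i) g ?_
    rw [← (six3_facts i).1, ← (six3_facts j).1, map_pow, map_pow, ← conj_pow, hg]
  have e : ((∑ χ : IrrCharacter G, sixCoef Φ χ i * sixCoef Φ χ j : ℤ) : ℂ) =
      if IsConj (Φ (six3 i)) (Φ (six3 j)) then
        (Nat.card (Subgroup.centralizer ({Φ (six3 i)} : Set G)) : ℂ) else 0 := by
    rw [← second_orthogonality]
    push_cast
    refine Finset.sum_congr rfl fun χ _ => ?_
    rw [Loc.six_real χ j, (six_spec χ i).1, (six_spec χ j).1]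
    push_cast; ring
  by_cases hij : i = j
  · subst hij
    rw [if_pos (IsConj.refl _)] at e
    rw [if_pos rfl]
    have hc : Nat.card (Subgroup.centralizer ({Φ (six3 i)} : Set G)) = 6 := by
      rw [← (six3_facts i).2.2.2.1, ← Fintype.card_subtype, ← Nat.card_eq_fintype_card]
      refine (Nat.card_eq_of_bijective
        (fun c : {c : Local108 // c * six3 i = six3 i * c} => (⟨Φ c.1, Subgroup.mem_centralizer_singleton_iff.mpr
          (by rw [← map_mul, ← map_mul, c.2])⟩ : Subgroup.centralizer ({Φ (six3 i)} : Set G))) ⟨?_, ?_⟩).symm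
      · exact fun a b e => Subtype.ext (h.inj (congrArg Subtype.val e))
      · rintro ⟨g, hg⟩
        rw [Subgroup.mem_centralizer_singleton_iff] at hg
        obtain ⟨c, rfl⟩ := key g (by rw [hg, mul_inv_cancel_right])
        exact ⟨⟨c, h.inj (by simpa using hg)⟩, rfl⟩
    rw [hc] at e
    exact_mod_cast e
  · rw [if_neg hij]
    rw [if_neg ?_] at e
    · exact_mod_cast e
    · intro hc
      obtain ⟨g, hg⟩ := isConj_iff.mp hc
      obtain ⟨c, rfl⟩ := key g hg
      exact six3_not_conj i j hij c (h.inj (by simpa using hg))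

theorem six_not_conj_sq (h : Loc Φ) {x : G} (hx : x * x = 1) (i : Fin 3) : ¬ IsConj (Φ (six3 i)) x := by
  intro hc
  obtain ⟨g, rfl⟩ := isConj_iff.mp hc
  refine (six3_facts i).2.2.2.2 (h.inj ?_)
  rw [map_mul, map_one]
  have : g * (Φ (six3 i) * Φ (six3 i)) * g⁻¹ = 1 := by rw [← hx]; group
  calc Φ (six3 i) * Φ (six3 i) = g⁻¹ * (g * (Φ (six3 i) * Φ (six3 i)) * g⁻¹) * g := by group
    _ = 1 := by rw [this]; group

theorem Loc.sum_six_sq (h : Loc Φ) {x : G} (hx : x * x = 1) (i : Fin 3) :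
    ∑ χ : IrrCharacter G, (sixCoef Φ χ i : ℂ) * (χ : G → ℂ) x = 0 := by
  classical
  have := second_orthogonality x (Φ (six3 i))
  rw [if_neg fun hc => six_not_conj_sq h hx i hc.symm] at this
  rw [← neg_zero, ← this, ← Finset.sum_neg_distrib]
  refine Finset.sum_congr rfl fun χ _ => ?_
  rw [Loc.six_real χ i, (six_spec χ i).1]
  push_cast; ring

theorem six_not_conj_pt : ∀ i : Fin 3, six3 i ^ 3 ≠ 1 := by decide +kernel

theorem Loc.sum_six_mult (h : Loc Φ) (i : Fin 3) (l m : V) :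
    ∑ χ : IrrCharacter G, sixCoef Φ χ i * (mult Φ χ l - mult Φ χ m) = 0 := by
  classical
  have hz : ∀ t : V, ∑ χ : IrrCharacter G, (sixCoef Φ χ i : ℂ) * (χ : G → ℂ) (Φ (pt t)) = 0 := by
    intro t
    have := second_orthogonality (Φ (pt t)) (Φ (six3 i))
    rw [if_neg ?_] at this
    · rw [← neg_zero, ← this, ← Finset.sum_neg_distrib]
      refine Finset.sum_congr rfl fun χ _ => ?_
      rw [Loc.six_real χ i, (six_spec χ i).1]
      push_cast; ring
    · intro hc
      obtain ⟨g, hg⟩ := isConj_iff.mp hc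
      refine six_not_conj_pt i (h.inj ?_)
      rw [map_pow, ← hg, conj_pow, ← map_pow, (pt_facts t).1, map_one, mul_one, mul_inv_cancel]
  have e : (27 : ℂ) * ((∑ χ : IrrCharacter G, sixCoef Φ χ i * (mult Φ χ l - mult Φ χ m) : ℤ) : ℂ) = 27 * ((0 : ℤ) : ℂ) := by
    push_cast
    rw [mul_zero, Finset.mul_sum]
    calc ∑ χ : IrrCharacter G, 27 * ((sixCoef Φ χ i : ℂ) * ((mult Φ χ l : ℂ) - mult Φ χ m))
        = ∑ t : V, ((phase (dotV l t) : ℂ) - phase (dotV m t)) *
            ∑ χ : IrrCharacter G, (sixCoef Φ χ i : ℂ) * (χ : G → ℂ) (Φ (pt t)) := by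
          simp only [Finset.mul_sum]
          rw [Finset.sum_comm]
          refine Finset.sum_congr rfl fun χ _ => ?_
          rw [show (27 : ℂ) * ((sixCoef Φ χ i : ℂ) * ((mult Φ χ l : ℂ) - mult Φ χ m)) =
            (sixCoef Φ χ i : ℂ) * (27 * (mult Φ χ l : ℂ) - 27 * mult Φ χ m) by ring,
            ← mult_spec, ← mult_spec, ← Finset.sum_sub_distrib, Finset.mul_sum]
          exact Finset.sum_congr rfl fun t _ => by ring
      _ = 0 := Finset.sum_eq_zero fun t _ => by rw [hz t, mul_zero]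
  exact_mod_cast mul_left_cancel₀ (show (27 : ℂ) ≠ 0 by norm_num) e

/-- The three kinds of involutions are not fused. -/
theorem Loc.apart (h : Loc Φ) : Apart Φ := by
  intro i j hc
  by_contra hij
  have h3 : ∀ χ : IrrCharacter G, (3 : ℤ) ∣ sixCoef Φ χ i - sixCoef Φ χ j := fun χ => by
    obtain ⟨-, hi, di⟩ := six_spec (Φ := Φ) χ i
    obtain ⟨-, hj, dj⟩ := six_spec (Φ := Φ) χ j
    have e : invVal Φ χ i = invVal Φ χ j := by
      exact_mod_cast (hi.symm.trans ((value_conj χ hc).trans hj))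
    rw [e] at di
    simpa using dvd_sub di dj
  have e : ∑ χ : IrrCharacter G, (sixCoef Φ χ i - sixCoef Φ χ j) ^ 2 = 12 := by
    rw [Finset.sum_congr rfl fun χ _ => show (sixCoef Φ χ i - sixCoef Φ χ j) ^ 2 =
      sixCoef Φ χ i * sixCoef Φ χ i - 2 * (sixCoef Φ χ i * sixCoef Φ χ j) + sixCoef Φ χ j * sixCoef Φ χ j by ring,
      Finset.sum_add_distrib, Finset.sum_sub_distrib, ← Finset.mul_sum, h.sum_six_six, h.sum_six_six,
      h.sum_six_six, if_pos rfl, if_pos rfl, if_neg hij]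
    norm_num
  have h9 : (9 : ℤ) ∣ ∑ χ : IrrCharacter G, (sixCoef Φ χ i - sixCoef Φ χ j) ^ 2 :=
    Finset.dvd_sum fun χ _ => by
      obtain ⟨m, hm⟩ := h3 χ
      exact ⟨m ^ 2, by rw [hm]; ring⟩
  rw [e] at h9
  norm_num at h9

end CfsgLib.SmallGroups.ThreeCube
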