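import Mathlib

/-!
Integral vectors with the inner products of the coherent family.
-/

set_option autoImplicit false

namespace CfsgLib.SmallGroups.ThreeCube

variable {ι : Type*} [Fintype ι]

theorem sq_le_of_sum {f : ι → ℤ} {n : ℤ} (h : ∑ χ, f χ * f χ = n) (χ : ι) : f χ * f χ ≤ n :=
  h ▸ Finset.single_le_sum (f := fun χ => f χ * f χ) (fun _ _ => mul_self_nonneg _) (Finset.mem_univ χ)

theorem unit_of_small {a : ℤ} (h : a * a ≤ 3) : a = 0 ∨ a = 1 ∨ a = -1 := by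
  have hb : -2 < a ∧ a < 2 := by constructor <;> nlinarith
  omega

theorem support_card [DecidableEq ι] {f : ι → ℤ} {n : ℕ} (h : ∑ χ, f χ * f χ = n) (hn : n ≤ 3) :
    (Finset.univ.filter fun χ => f χ ≠ 0).card = n := by
  have e : ((Finset.univ.filter fun χ => f χ ≠ 0).card : ℤ) = n := by
    rw [← h, Finset.card_filter]
    push_cast
    refine Finset.sum_congr rfl fun χ _ => ?_
    have := sq_le_of_sum h χ
    rcases unit_of_small (a := f χ) (by omega) with e | e | e <;> simp [e]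
  exact_mod_cast e

/-- Summing over a support. -/
theorem sum_over {M : Type*} [AddCommMonoid M] {κ : Type*} [Fintype κ] (p : κ → ι) (hp : Function.Injective p)
    (F : ι → M) (hF : ∀ χ, (∀ k, p k ≠ χ) → F χ = 0) : ∑ χ, F χ = ∑ k, F (p k) := by
  classical
  rw [← Finset.sum_image fun a _ b _ e => hp e]
  refine (Finset.sum_subset (Finset.subset_univ _) fun χ _ hχ => hF χ fun k hk => hχ ?_).symm
  exact Finset.mem_image.mpr ⟨k, Finset.mem_univ _, hk⟩

theorem two_support {f : ι → ℤ} (h : ∑ χ, f χ * f χ = 2) :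
    ∃ p q, p ≠ q ∧ f p * f p = 1 ∧ f q * f q = 1 ∧ ∀ χ, χ ≠ p → χ ≠ q → f χ = 0 := by
  classical
  obtain ⟨p, q, hpq, hs⟩ := Finset.card_eq_two.mp (support_card (n := 2) h (by norm_num))
  have hm : ∀ χ, f χ ≠ 0 ↔ χ = p ∨ χ = q := fun χ => by simpa using Finset.ext_iff.mp hs χ
  have hu : ∀ χ, f χ ≠ 0 → f χ * f χ = 1 := fun χ hχ => by
    have := sq_le_of_sum h χ
    rcases unit_of_small (a := f χ) (by omega) with e | e | e <;> simp [e] at hχ ⊢
  exact ⟨p, q, hpq, hu p ((hm p).mpr (Or.inl rfl)), hu q ((hm q).mpr (Or.inr rfl)), fun χ h1 h2 => by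
    by_contra h0; rcases (hm χ).mp h0 with e | e
    exacts [h1 e, h2 e]⟩

/-- Four differences meeting in inner products `1` share a term. -/
theorem coherent (Δ : Fin 4 → ι → ℤ) (hnorm : ∀ m, ∑ χ, Δ m χ * Δ m χ = 2)
    (hip : ∀ m m', m ≠ m' → ∑ χ, Δ m χ * Δ m' χ = 1) :
    ∃ (ξ : ι) (s : ℤ) (r : Fin 4 → ι), s * s = 1 ∧ Function.Injective r ∧
      ∀ m, r m ≠ ξ ∧ Δ m ξ = s ∧ Δ m (r m) * Δ m (r m) = 1 ∧ ∀ χ, χ ≠ ξ → χ ≠ r m → Δ m χ = 0 := by
  classical
  choose p q hpq hp hq hz using fun m => two_support (hnorm m)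
  have split : ∀ m m', m ≠ m' → Δ m (p m) * Δ m' (p m) + Δ m (q m) * Δ m' (q m) = 1 := by
    intro m m' h
    rw [← hip m m' h, ← Finset.sum_subset (Finset.subset_univ {p m, q m}) fun χ _ hχ => ?_, Finset.sum_pair (hpq m)]
    simp only [Finset.mem_insert, Finset.mem_singleton, not_or] at hχ
    rw [hz m χ hχ.1 hχ.2, zero_mul]
  have small : ∀ m χ, Δ m χ = 0 ∨ Δ m χ = 1 ∨ Δ m χ = -1 := fun m χ => by
    have := sq_le_of_sum (hnorm m) χ
    exact unit_of_small (by omega)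
  have hrow : ∀ m, m ≠ 0 → (Δ m (p 0) = Δ 0 (p 0) ∧ Δ m (q 0) = 0) ∨ (Δ m (q 0) = Δ 0 (q 0) ∧ Δ m (p 0) = 0) := by
    intro m hm
    have h := split 0 m (Ne.symm hm)
    have h1 := hp 0
    have h2 := hq 0
    rcases small 0 (p 0) with f | f | f
    · rw [f] at h1; omega
    all_goals
      rcases small 0 (q 0) with f' | f' | f'
      · rw [f'] at h2; omega
      all_goals
        rw [f, f'] at h ⊢
        rcases small m (p 0) with e | e | e <;> rcases small m (q 0) with e' | e' | e' <;>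
          rw [e, e'] at h ⊢ <;> omega
  have other : ∀ m ξ, Δ m ξ ≠ 0 → ∃ r, r ≠ ξ ∧ Δ m r * Δ m r = 1 ∧ ∀ χ, χ ≠ ξ → χ ≠ r → Δ m χ = 0 := by
    intro m ξ hξ
    have : ξ = p m ∨ ξ = q m := by
      by_contra hn
      push Not at hn
      exact hξ (hz m ξ hn.1 hn.2)
    rcases this with rfl | rfl
    · exact ⟨q m, (hpq m).symm, hq m, hz m⟩
    · exact ⟨p m, hpq m, hp m, fun χ h1 h2 => hz m χ h2 h1⟩
  -- all rows choose the same end
  have finish : ∀ ξ, Δ 0 ξ ≠ 0 → (∀ m, Δ m ξ = Δ 0 ξ) → ∃ (ξ : ι) (s : ℤ) (r : Fin 4 → ι), s * s = 1 ∧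
      Function.Injective r ∧
      ∀ m, r m ≠ ξ ∧ Δ m ξ = s ∧ Δ m (r m) * Δ m (r m) = 1 ∧ ∀ χ, χ ≠ ξ → χ ≠ r m → Δ m χ = 0 := by
    intro ξ hξ hall
    choose r hr hru hrz using fun m => other m ξ (hall m ▸ hξ)
    have hs : Δ 0 ξ * Δ 0 ξ = 1 := by
      rcases small 0 ξ with e | e | e
      · exact absurd e hξ
      all_goals rw [e]; norm_num
    refine ⟨ξ, Δ 0 ξ, r, hs, fun m m' e => ?_, fun m => ⟨hr m, hall m, hru m, hrz m⟩⟩
    by_contra hne
    have h := hip m m' hne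
    rw [← Finset.sum_subset (Finset.subset_univ {ξ, r m}) (fun χ _ hχ => by
        simp only [Finset.mem_insert, Finset.mem_singleton, not_or] at hχ
        rw [hrz m χ hχ.1 hχ.2, zero_mul]), Finset.sum_pair (Ne.symm (hr m)), hall m, hall m', hs] at h
    have h' : Δ m (r m) * Δ m' (r m) = 0 := by omega
    rcases mul_eq_zero.mp h' with h0 | h0
    · have := hru m; rw [h0] at this; omega
    · rw [e] at h0; have := hru m'; rw [h0] at this; omega
  have mixed : ∀ m m', m ≠ 0 → m' ≠ 0 → Δ m (p 0) = Δ 0 (p 0) → Δ m (q 0) = 0 → Δ m' (q 0) = Δ 0 (q 0) →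
      Δ m' (p 0) = 0 → ∀ n, n ≠ 0 → n ≠ m → n ≠ m' → False := by
    intro m m' hm hm' a1 a2 b1 b2 n hn hnm hnm'
    have u1 : Δ 0 (p 0) ≠ 0 := fun e => by have := hp 0; rw [e] at this; omega
    have u2 : Δ 0 (q 0) ≠ 0 := fun e => by have := hq 0; rw [e] at this; omega
    have hne : m ≠ m' := fun e => u2 (by rw [← b1, ← e, a2])
    obtain ⟨r, hr, hru, hrz⟩ := other m (p 0) (a1 ▸ u1)
    have hsum : ∀ k, m ≠ k → Δ m (p 0) * Δ k (p 0) + Δ m r * Δ k r = 1 := fun k hk => by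
      rw [← hip m k hk, ← Finset.sum_subset (Finset.subset_univ {p 0, r}) fun χ _ hχ => ?_, Finset.sum_pair hr.symm]
      simp only [Finset.mem_insert, Finset.mem_singleton, not_or] at hχ
      rw [hrz χ hχ.1 hχ.2, zero_mul]
    have e1 := hsum m' hne
    rw [b2, mul_zero, zero_add] at e1
    have e2 := hsum n (Ne.symm hnm)
    obtain ⟨r', hr', hru', hrz'⟩ := other m' (q 0) (b1 ▸ u2)
    have hrr : r = r' := by
      have hne0 : Δ m' r ≠ 0 := fun h0 => by rw [h0, mul_zero] at e1; omega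
      by_contra hh
      refine hne0 (hrz' r ?_ hh)
      intro e; rw [e, a2] at hru; omega
    subst hrr
    have e3 := hip m' n (Ne.symm hnm')
    rw [← Finset.sum_subset (Finset.subset_univ {q 0, r}) (fun χ _ hχ => by
        simp only [Finset.mem_insert, Finset.mem_singleton, not_or] at hχ
        rw [hrz' χ hχ.1 hχ.2, zero_mul]), Finset.sum_pair hr'.symm] at e3
    have hxy : Δ m r = Δ m' r := by
      rcases small m r with e | e | e <;> rcases small m' r with e' | e' | e' <;> rw [e, e'] at e1 <;> omega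
    rcases hrow n hn with ⟨c1, c2⟩ | ⟨c1, c2⟩
    · rw [a1, c1, hp 0] at e2
      rw [c2, mul_zero, zero_add, ← hxy] at e3
      omega
    · rw [b1, c1, hq 0] at e3
      rw [c2, mul_zero, zero_add, hxy] at e2
      omega
  rcases hrow 1 (by decide) with ⟨a1, a2⟩ | ⟨a1, a2⟩
  · by_cases hall : ∀ m, Δ m (p 0) = Δ 0 (p 0)
    · exact finish _ (fun e => by have := hp 0; rw [e] at this; omega) hall
    · push Not at hall
      obtain ⟨m', hm'⟩ := hall
      have h0 : m' ≠ 0 := fun e => hm' (e ▸ rfl)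
      rcases hrow m' h0 with ⟨b1, b2⟩ | ⟨b1, b2⟩
      · exact absurd b1 hm'
      · obtain ⟨n, hn, hn1, hn2⟩ : ∃ n : Fin 4, n ≠ 0 ∧ n ≠ 1 ∧ n ≠ m' :=
          (by decide : ∀ m' : Fin 4, ∃ n : Fin 4, n ≠ 0 ∧ n ≠ 1 ∧ n ≠ m') m'
        exact (mixed 1 m' (by decide) h0 a1 a2 b1 b2 n hn hn1 hn2).elim
  · by_cases hall : ∀ m, Δ m (q 0) = Δ 0 (q 0)
    · exact finish _ (fun e => by have := hq 0; rw [e] at this; omega) hall
    · push Not at hall
      obtain ⟨m', hm'⟩ := hall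
      have h0 : m' ≠ 0 := fun e => hm' (e ▸ rfl)
      rcases hrow m' h0 with ⟨b1, b2⟩ | ⟨b1, b2⟩
      · obtain ⟨n, hn, hn1, hn2⟩ : ∃ n : Fin 4, n ≠ 0 ∧ n ≠ m' ∧ n ≠ 1 :=
          (by decide : ∀ m' : Fin 4, ∃ n : Fin 4, n ≠ 0 ∧ n ≠ m' ∧ n ≠ 1) m'
        exact (mixed m' 1 h0 (by decide) b1 b2 a1 a2 n hn hn1 hn2).elim
      · exact absurd b1 hm'

/-- A short vector meeting each difference in `-1` contains the common term. -/
theorem attach {Δ : Fin 4 → ι → ℤ} {ξ : ι} {s : ℤ} {r : Fin 4 → ι} (hinj : Function.Injective r)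
    (hr : ∀ m, r m ≠ ξ ∧ Δ m ξ = s ∧ Δ m (r m) * Δ m (r m) = 1 ∧ ∀ χ, χ ≠ ξ → χ ≠ r m → Δ m χ = 0)
    (hs : s * s = 1) {R : ι → ℤ} (hR : ∀ m, ∑ χ, R χ * Δ m χ = -1) (hn : ∑ χ, R χ * R χ ≤ 4) :
    (R ξ = -s ∧ ∀ m, R (r m) = 0) ∨
      (R ξ = 0 ∧ (∀ m, R (r m) = -(Δ m (r m))) ∧ ∑ χ, R χ * R χ = 4 ∧ ∀ χ, (∀ m, r m ≠ χ) → R χ = 0) := by
  classical
  have e : ∀ m, R ξ * s + R (r m) * Δ m (r m) = -1 := fun m => by
    rw [← hR m, ← Finset.sum_subset (Finset.subset_univ {ξ, r m}) fun χ _ hχ => ?_,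
      Finset.sum_pair (Ne.symm (hr m).1), (hr m).2.1]
    simp only [Finset.mem_insert, Finset.mem_singleton, not_or] at hχ
    rw [(hr m).2.2.2 χ hχ.1 hχ.2, mul_zero]
  have hRr : ∀ m, R (r m) = (-1 - R ξ * s) * Δ m (r m) := fun m => by
    calc R (r m) = R (r m) * (Δ m (r m) * Δ m (r m)) := by rw [(hr m).2.2.1, mul_one]
      _ = (R (r m) * Δ m (r m)) * Δ m (r m) := by ring
      _ = _ := by rw [show R (r m) * Δ m (r m) = -1 - R ξ * s by linarith [e m]]
  by_cases h0 : R ξ * s = -1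
  · refine Or.inl ⟨?_, fun m => by rw [hRr m, h0]; ring⟩
    calc R ξ = R ξ * (s * s) := by rw [hs, mul_one]
      _ = (R ξ * s) * s := by ring
      _ = -s := by rw [h0]; ring
  · right
    set S : Finset ι := insert ξ (Finset.univ.image r) with hS
    have hξS : ξ ∉ Finset.univ.image r := by simp; exact fun m => (hr m).1
    have hsumS : ∑ χ ∈ S, R χ * R χ = R ξ * R ξ + 4 * (-1 - R ξ * s) ^ 2 := by
      rw [hS, Finset.sum_insert hξS, Finset.sum_image fun a _ b _ e => hinj e]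
      congr 1
      have : ∀ m, R (r m) * R (r m) = (-1 - R ξ * s) ^ 2 := fun m => by
        rw [hRr m]; linear_combination (-1 - R ξ * s) ^ 2 * (hr m).2.2.1
      simp [this]
    have hle : ∑ χ ∈ S, R χ * R χ ≤ ∑ χ, R χ * R χ :=
      Finset.sum_le_sum_of_subset_of_nonneg (Finset.subset_univ _) fun _ _ _ => mul_self_nonneg _
    have h1 : 1 ≤ (-1 - R ξ * s) ^ 2 := by
      have : -1 - R ξ * s ≠ 0 := by omega
      have := sq_pos_of_ne_zero this
      omega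
    have hξ0 : R ξ = 0 := by
      by_contra hh
      have : 0 < R ξ * R ξ := mul_self_pos.mpr hh
      omega
    rw [hξ0] at hsumS h1
    refine ⟨hξ0, fun m => by rw [hRr m, hξ0]; ring, by linarith, fun χ hχ => ?_⟩
    by_cases hχξ : χ = ξ
    · rw [hχξ, hξ0]
    have h2 := Finset.sum_sdiff (f := fun χ => R χ * R χ) (Finset.subset_univ S)
    have h3 : ∑ χ ∈ Finset.univ \ S, R χ * R χ = 0 := by
      have hnn : 0 ≤ ∑ χ ∈ Finset.univ \ S, R χ * R χ := Finset.sum_nonneg fun _ _ => mul_self_nonneg _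
      linarith
    exact mul_self_eq_zero.mp ((Finset.sum_eq_zero_iff_of_nonneg fun _ _ => mul_self_nonneg _).mp h3 χ
      (by simp [hS, hχξ, hχ]))

theorem three_support {f : ι → ℤ} (h : ∑ χ, f χ * f χ = 3) {ξ : ι} (hξ : f ξ ≠ 0) :
    ∃ p q, p ≠ q ∧ p ≠ ξ ∧ q ≠ ξ ∧ f p * f p = 1 ∧ f q * f q = 1 ∧ ∀ χ, χ ≠ ξ → χ ≠ p → χ ≠ q → f χ = 0 := by
  classical
  have hu : f ξ * f ξ = 1 := by
    have := sq_le_of_sum h ξ
    rcases unit_of_small (a := f ξ) (by omega) with e | e | e <;> simp [e] at hξ ⊢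
  have h' : ∑ χ, (if χ = ξ then 0 else f χ) * (if χ = ξ then 0 else f χ) = 2 := by
    rw [← Finset.add_sum_erase _ _ (Finset.mem_univ ξ)] at h ⊢
    rw [Finset.sum_congr rfl fun χ hχ => show (if χ = ξ then 0 else f χ) * (if χ = ξ then 0 else f χ) = f χ * f χ by
      rw [if_neg (Finset.ne_of_mem_erase hχ)]]
    rw [if_pos rfl, mul_zero]; linarith
  obtain ⟨p, q, hpq, hp, hq, hz⟩ := two_support h'
  have hpξ : p ≠ ξ := fun e => by rw [if_pos e] at hp; omega
  have hqξ : q ≠ ξ := fun e => by rw [if_pos e] at hq; omega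
  rw [if_neg hpξ] at hp
  rw [if_neg hqξ] at hq
  exact ⟨p, q, hpq, hpξ, hqξ, hp, hq, fun χ h1 h2 h3 => by simpa [h1] using hz χ h2 h3⟩

/-- Three units beside one term of a vector of norm `4`. -/
theorem four_support {f : ι → ℤ} (h : ∑ χ, f χ * f χ = 4) {ξ : ι} (hξ : f ξ * f ξ = 1) :
    ∃ a : Fin 3 → ι, Function.Injective a ∧ (∀ k, a k ≠ ξ ∧ f (a k) * f (a k) = 1) ∧
      ∀ χ, χ ≠ ξ → (∀ k, a k ≠ χ) → f χ = 0 := by
  classical
  have h' : ∑ χ, (if χ = ξ then 0 else f χ) * (if χ = ξ then 0 else f χ) = 3 := by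
    rw [← Finset.add_sum_erase _ _ (Finset.mem_univ ξ)] at h ⊢
    rw [Finset.sum_congr rfl fun χ hχ => show (if χ = ξ then 0 else f χ) * (if χ = ξ then 0 else f χ) = f χ * f χ by
      rw [if_neg (Finset.ne_of_mem_erase hχ)]]
    rw [if_pos rfl, mul_zero]; linarith
  obtain ⟨x, y, z, hxy, hxz, hyz, hs⟩ := Finset.card_eq_three.mp (support_card (n := 3) h' (by norm_num))
  have hm : ∀ χ, (if χ = ξ then 0 else f χ) ≠ 0 ↔ χ = x ∨ χ = y ∨ χ = z := fun χ => by
    have := Finset.ext_iff.mp hs χ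
    simp only [Finset.mem_filter, Finset.mem_univ, true_and, Finset.mem_insert, Finset.mem_singleton] at this
    exact this
  have hinj : Function.Injective ![x, y, z] := by
    intro a b e
    fin_cases a <;> fin_cases b <;> simp_all
  refine ⟨![x, y, z], hinj, fun k => ?_, fun χ h1 h2 => ?_⟩
  · have hk := (hm (![x, y, z] k)).mpr (by fin_cases k <;> simp)
    have hne : ![x, y, z] k ≠ ξ := fun e => hk (if_pos e)
    rw [if_neg hne] at hk
    have hle := sq_le_of_sum h' (![x, y, z] k)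
    rw [if_neg hne] at hle
    refine ⟨hne, ?_⟩
    rcases unit_of_small (a := f (![x, y, z] k)) hle with e | e | e
    · exact absurd e hk
    all_goals rw [e]; norm_num
  · by_contra h0
    rcases (hm χ).mp (by rwa [if_neg h1]) with e | e | e
    · exact h2 0 e.symm
    · exact h2 1 e.symm
    · exact h2 2 e.symm

/-- Rows with entry sum zero and norm at most two. -/
def rowTab : Fin 7 → Fin 3 → ℤ :=
  ![![0, 0, 0], ![1, -1, 0], ![1, 0, -1], ![-1, 1, 0], ![0, 1, -1], ![-1, 0, 1], ![0, -1, 1]]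

theorem row_cases : ∀ v : Fin 3 → Fin 3, (∑ k, (((v k : ℕ) : ℤ) - 1) = 0) →
    ∃ c, ∀ k, ((v k : ℕ) : ℤ) - 1 = rowTab c k := by decide +kernel

theorem overlap_cases : ∀ c : Fin 3 → Fin 7,
    (∀ l p q o, p ≠ q → o ≠ p → o ≠ q → rowTab (c l) p = 1 → rowTab (c l) q = -1 →
      2 + 2 * (∑ l', rowTab (c l') q) + ∑ l', rowTab (c l') o = 0) →
    ∀ l p q, rowTab (c l) p = 1 → rowTab (c l) q = -1 →
      (∑ l', rowTab (c l') p) = 1 ∧ (∑ l', rowTab (c l') q) = -1 := by decide +kernel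

end CfsgLib.SmallGroups.ThreeCube
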